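import Cfsg.Agent.Lib.Schur.TailsCert

/-!
Data for the 2-part of the multiplier of the Lyons group.
-/

set_option autoImplicit false
set_option maxRecDepth 100000

namespace CfsgLib.Schur.Sporadic.Ly

open CfsgLib.Schur.Tails

/-- The rules. -/
def rules2 : List Rule := [
  ([0, 0], []),
  ([1, 1], [7]),
  ([2, 2], [7]),
  ([3, 3], []),
  ([4, 4], [7]),
  ([5, 5], [7]),
  ([6, 6], []),
  ([7, 7], []),
  ([1, 0], [0, 1, 3]),
  ([2, 0], [0, 2, 4]),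
  ([2, 1], [1, 2, 5, 7]),
  ([3, 0], [0, 3]),
  ([3, 1], [1, 3]),
  ([3, 2], [2, 3, 5]),
  ([4, 0], [0, 4, 7]),
  ([4, 1], [1, 4, 5, 7]),
  ([4, 2], [2, 4, 7]),
  ([4, 3], [3, 4, 6, 7]),
  ([5, 0], [0, 5, 6]),
  ([5, 1], [1, 5, 7]),
  ([5, 2], [2, 5, 7]),
  ([5, 3], [3, 5, 7]),
  ([5, 4], [4, 5, 7]),
  ([6, 0], [0, 6]),
  ([6, 1], [1, 6, 7]),
  ([6, 2], [2, 6, 7]),
  ([6, 3], [3, 6]),
  ([6, 4], [4, 6]),
  ([6, 5], [5, 6]),
  ([7, 0], [0, 7]),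
  ([7, 1], [1, 7]),
  ([7, 2], [2, 7]),
  ([7, 3], [3, 7]),
  ([7, 4], [4, 7]),
  ([7, 5], [5, 7]),
  ([7, 6], [6, 7])]

/-- Overlaps. -/
def ovl2 : List (List ℕ × ℕ × List ℕ) := [
  ]

/-- Fusions. -/
def fus2 : List Fus := [
  ⟨[[0, 3, 7], [0], [2], [4, 7], [5, 7], [6, 7], [7]], [[0, 3, 7], [3, 7], [2], [5], [4], [6], [7]], [([3, 3], [6]), ([5, 5], []), ([2, 1], [1, 2, 3, 6]), ([3, 0], [0, 3, 5, 6]), ([3, 1], [1, 3, 6]), ([3, 2], [2, 3, 6]), ([5, 0], [0, 5]), ([5, 1], [1, 5]), ([5, 2], [2, 5, 6]), ([5, 3], [3, 5]), ([6, 3], [3, 6])]⟩,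
  ⟨[[1, 5, 7], [0], [3, 6], [1], [3, 7], [7]], [[5, 7], [0, 7], [6, 7], [1, 7], [3, 7], [7]], [([2, 2], []), ([1, 0], [0, 1, 2, 5]), ([2, 0], [0, 2]), ([2, 1], [1, 2]), ([3, 0], [0, 3, 5]), ([3, 2], [2, 3, 5]), ([4, 0], [0, 4, 5]), ([4, 1], [1, 4]), ([5, 0], [0, 5])]⟩,
  ⟨[[0, 4], [1], [3, 5, 6], [1, 5, 7], [3, 5], [7]], [[0, 4, 7], [1, 7], [3, 5, 6], [5, 7], [6, 7], [7]], [([4, 4], []), ([3, 0], [0, 3, 4]), ([3, 1], [1, 3, 5]), ([4, 0], [0, 4]), ([4, 1], [1, 4, 5])]⟩,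
  ⟨[[2, 4, 5, 6], [1], [2], [5, 7], [2, 4], [7]], [[2, 4, 5, 6, 7], [1], [4, 5, 6], [5, 7], [5, 6], [7]], [([3, 0], [0, 3]), ([3, 1], [1, 3, 5]), ([3, 2], [2, 3, 5]), ([4, 1], [1, 4]), ([5, 2], [2, 5])]⟩,
  ⟨[[1, 3], [2, 4], [5, 6, 7], [2, 5], [2], [7]], [[1, 3], [4], [5, 6, 7], [5], [2, 7], [7]], [([2, 0], [0, 2, 5]), ([2, 1], [1, 2, 5]), ([3, 0], [0, 3])]⟩,
  ⟨[[5, 7], [0, 3, 7], [0, 4], [0], [6, 7], [7]], [[4, 5], [3, 5], [0], [0, 4, 7], [6, 7], [7]], [([1, 0], [0, 1, 4]), ([2, 0], [0, 2, 4]), ([2, 1], [1, 2, 4, 5]), ([3, 0], [0, 3, 4, 5]), ([4, 0], [0, 4]), ([4, 1], [1, 4])]⟩]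

/-- An equation. -/
def eq2_0 : Form := [(1, 5), (1, 39), (1, 39), (-1, 42), (-1, 33), (-1, 4), (-1, 7)]

/-- An equation. -/
def eq2_1 : Form := [(1, 6), (1, 41), (1, 41), (-1, 35), (-1, 6), (-1, 7)]

/-- An equation. -/
def eq2_2 : Form := [(-1, 31), (-1, 13), (-1, 34), (-1, 5), (-1, 7), (1, 38), (1, 37), (-1, 37), (-1, 38), (-1, 39), (-1, 42), (-1, 9), (1, 7)]

/-- An equation. -/
def eq2_3 : Form := [(1, 18), (1, 26), (1, 21), (1, 35), (1, 7), (-1, 34), (-1, 35), (-1, 7), (1, 39), (1, 36), (-1, 36), (-1, 39), (-1, 41), (-1, 42), (-1, 29), (-1, 14), (-1, 7), (-1, 17), (-1, 7), (1, 33), (1, 7), (1, 7)]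

/-- An equation. -/
def eq2_4 : Form := [(1, 21), (1, 7), (-1, 34), (-1, 7), (1, 39), (1, 37), (-1, 37), (-1, 39), (-1, 42), (-1, 29), (-1, 14), (-1, 7), (1, 7)]

/-- An equation. -/
def eq2_5 : Form := [(1, 20), (1, 39), (1, 38), (-1, 38), (-1, 39), (-1, 42), (-1, 31), (-1, 16), (-1, 7), (1, 7)]

/-- An equation. -/
def eq2_6 : Form := [(1, 23), (1, 26), (-1, 35), (1, 41), (1, 36), (-1, 36), (-1, 41), (-1, 29), (-1, 23), (-1, 32), (-1, 26), (-1, 7), (1, 35), (1, 7)]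

/-- An equation. -/
def eq2_7 : Form := [(1, 26), (-1, 35), (1, 41), (1, 37), (-1, 37), (-1, 41), (-1, 29), (-1, 23)]

/-- An equation. -/
def eq2_8 : Form := [(1, 25), (1, 41), (1, 38), (-1, 38), (-1, 41), (-1, 42), (-1, 31), (-1, 25), (-1, 7), (1, 7)]

/-- An equation. -/
def eq2_9 : Form := [(1, 28), (1, 41), (1, 39), (-1, 39), (-1, 41), (-1, 33), (-1, 27), (-1, 7), (1, 35), (1, 7)]

/-- An equation. -/
def eq2_10 : Form := [(1, 34), (1, 42), (1, 39), (-1, 39), (-1, 42), (-1, 33), (-1, 7), (1, 7)]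

/-- An equation. -/
def eq2_11 : Form := [(1, 35), (1, 6), (1, 7), (1, 45), (1, 45), (-1, 26), (-1, 3), (-1, 6)]

/-- An equation. -/
def eq2_12 : Form := [(1, 34), (1, 7), (-1, 29), (-1, 18), (-1, 7), (-1, 6), (-1, 7), (1, 44), (1, 43), (-1, 43), (-1, 44), (-1, 45), (-1, 48), (1, 29), (1, 18), (1, 8), (1, 32), (1, 26), (1, 21), (1, 3), (1, 35), (1, 7), (1, 6)]

/-- An equation. -/
def eq2_13 : Form := [(1, 34), (1, 28), (1, 7), (-1, 35), (-1, 7), (1, 45), (1, 43), (-1, 43), (-1, 45), (-1, 24), (-1, 12), (-1, 34), (-1, 28), (-1, 7), (1, 32), (1, 21), (1, 7)]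

/-- An equation. -/
def eq2_14 : Form := [(1, 29), (1, 23), (1, 7), (-1, 35), (-1, 7), (1, 45), (1, 44), (-1, 44), (-1, 45), (-1, 23), (-1, 11)]

/-- An equation. -/
def eq2_15 : Form := [(1, 34), (1, 7), (-1, 30), (-1, 19), (-1, 7), (-1, 7), (1, 46), (1, 43), (-1, 43), (-1, 46), (-1, 48), (-1, 1), (-1, 34), (-1, 7), (1, 30), (1, 19), (1, 1), (1, 34), (1, 7), (1, 7)]

/-- An equation. -/
def eq2_16 : Form := [(1, 35), (1, 7), (-1, 30), (-1, 24), (-1, 7), (-1, 7), (1, 46), (1, 45), (-1, 45), (-1, 46), (-1, 48), (1, 24), (1, 12), (1, 7)]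

/-- An equation. -/
def eq2_17 : Form := [(1, 34), (1, 7), (-1, 32), (-1, 21), (-1, 7), (-1, 7), (1, 47), (1, 43), (-1, 43), (-1, 47), (-1, 48), (-1, 30), (-1, 12), (-1, 34), (-1, 7), (1, 32), (1, 21), (1, 7), (1, 7)]

/-- An equation. -/
def eq2_18 : Form := [(1, 29), (1, 11), (1, 7), (-1, 32), (-1, 7), (1, 47), (1, 44), (-1, 44), (-1, 47), (-1, 29), (-1, 11)]

/-- An equation. -/
def eq2_19 : Form := [(1, 34), (1, 7), (-1, 7), (1, 48), (1, 43), (-1, 43), (-1, 48), (-1, 30), (-1, 34), (-1, 7), (1, 7)]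

/-- An equation. -/
def eq2_20 : Form := [(1, 35), (1, 6), (1, 7), (1, 54), (1, 54), (-1, 21), (-1, 3), (-1, 34), (-1, 5), (-1, 7)]

/-- An equation. -/
def eq2_21 : Form := [(1, 29), (1, 18), (1, 33), (1, 27), (1, 22), (1, 35), (1, 7), (-1, 34), (-1, 7), (1, 53), (1, 50), (-1, 50), (-1, 53), (-1, 54), (-1, 29), (-1, 18), (-1, 8), (-1, 33), (-1, 27), (-1, 22), (-1, 35), (-1, 7), (1, 15), (1, 34), (1, 5), (1, 7), (1, 32), (1, 17), (1, 7), (1, 28)]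

/-- An equation. -/
def eq2_22 : Form := [(1, 30), (1, 19), (1, 7), (-1, 34), (-1, 7), (1, 53), (1, 51), (-1, 51), (-1, 53), (-1, 55), (-1, 30), (-1, 19), (-1, 1), (-1, 34), (-1, 7), (1, 1), (1, 34), (1, 7)]

/-- An equation. -/
def eq2_23 : Form := [(1, 29), (1, 23), (1, 33), (1, 27), (1, 7), (-1, 35), (-1, 7), (1, 54), (1, 50), (-1, 50), (-1, 54), (-1, 18), (-1, 11), (-1, 27), (-1, 22), (-1, 35), (1, 17), (1, 34), (1, 28)]

/-- An equation. -/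
def eq2_24 : Form := [(1, 30), (1, 24), (1, 7), (-1, 35), (-1, 7), (1, 54), (1, 51), (-1, 51), (-1, 54), (-1, 55), (-1, 19), (-1, 12)]

/-- An equation. -/
def eq2_25 : Form := [(1, 31), (1, 20), (1, 7), (1, 22), (1, 34), (1, 5), (1, 7), (-1, 34), (-1, 28), (-1, 5), (-1, 35), (-1, 7), (1, 60), (1, 57), (-1, 57), (-1, 60), (-1, 31), (-1, 20), (-1, 7), (-1, 22), (-1, 34), (-1, 5), (-1, 7), (1, 28), (1, 5), (1, 35), (1, 7)]

/-- An equation. -/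
def eq2_26 : Form := [(1, 30), (1, 19), (1, 7), (-1, 7), (1, 60), (1, 58), (-1, 58), (-1, 60), (-1, 62), (-1, 30), (-1, 19), (-1, 7), (1, 7)]

/-- An equation. -/
def eq2_27 : Form := [(1, 33), (1, 22), (1, 7), (1, 5), (1, 35), (-1, 28), (-1, 5), (-1, 35), (-1, 7), (1, 60), (1, 59), (-1, 59), (-1, 60), (-1, 62), (-1, 31), (-1, 20), (-1, 7), (1, 7)]

/-- An equation. -/
def eq2_28 : Form := [(1, 24), (1, 19), (1, 35), (1, 7), (1, 61), (1, 58), (-1, 58), (-1, 61), (-1, 15), (-1, 10), (-1, 33), (-1, 22), (-1, 7), (-1, 5), (-1, 7)]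

/-- An equation. -/
def eq2_29 : Form := [(1, 33), (1, 34), (1, 35), (1, 62), (1, 59), (-1, 59), (-1, 62), (-1, 31)]

/-- An equation. -/
def eq2_30 : Form := [(1, 30), (1, 24), (1, 19), (1, 35), (1, 7), (1, 32), (1, 26), (1, 21), (1, 35), (1, 7), (-1, 7), (1, 66), (1, 64), (-1, 64), (-1, 66), (-1, 69), (-1, 30), (-1, 24), (-1, 19), (-1, 35), (-1, 7), (-1, 32), (-1, 26), (-1, 21), (-1, 35), (-1, 7), (1, 7)]

/-- An equation. -/
def eq2_31 : Form := [(1, 33), (1, 27), (1, 22), (1, 35), (1, 7), (-1, 7), (1, 66), (1, 65), (-1, 65), (-1, 66), (-1, 69), (-1, 31), (-1, 25), (-1, 20), (-1, 35), (-1, 7), (-1, 33), (-1, 27), (-1, 22), (-1, 35), (-1, 7), (1, 7)]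

/-- An equation. -/
def eq2_32 : Form := [(1, 19), (1, 32), (1, 21), (1, 7), (1, 67), (1, 64), (-1, 64), (-1, 67), (-1, 19), (-1, 10), (-1, 34), (-1, 5), (-1, 7), (-1, 32), (1, 13), (1, 5)]

/-- An equation. -/
def eq2_33 : Form := [(1, 22), (1, 34), (1, 5), (1, 7), (-1, 21), (-1, 17), (-1, 34), (-1, 28), (-1, 7), (-1, 28), (-1, 5), (-1, 35), (-1, 35), (-1, 6), (-1, 7), (1, 72), (1, 71), (-1, 71), (-1, 72), (-1, 75), (-1, 34), (-1, 7), (1, 29), (1, 18), (1, 32), (1, 26), (1, 21), (1, 35), (1, 7), (1, 35), (1, 6), (1, 7)]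

/-- An equation. -/
def eq2_34 : Form := [(-1, 18), (-1, 14), (-1, 34), (-1, 35), (-1, 35), (-1, 6), (-1, 7), (1, 73), (1, 71), (-1, 71), (-1, 73), (-1, 75), (1, 29), (1, 18), (1, 33), (1, 27), (1, 22), (1, 35), (1, 7), (1, 6)]

/-- An equation. -/
def eq2_35 : Form := [(-1, 18), (-1, 11), (-1, 6), (-1, 7), (1, 73), (1, 72), (-1, 72), (-1, 73), (-1, 75), (-1, 76), (-1, 14), (-1, 0), (-1, 32), (-1, 17), (-1, 7), (1, 29), (1, 11), (1, 0), (1, 33), (1, 35), (1, 7)]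

/-- An equation. -/
def eq2_36 : Form := [(1, 33), (1, 4), (1, 7), (-1, 18), (-1, 14), (-1, 34), (-1, 35), (-1, 33), (-1, 27), (-1, 22), (-1, 4), (-1, 34), (-1, 7), (-1, 7), (-1, 6), (-1, 7), (1, 74), (1, 71), (-1, 71), (-1, 74), (-1, 75), (-1, 76), (1, 29), (1, 18), (1, 35), (1, 6), (1, 7)]

/-- An equation. -/
def eq2_37 : Form := [(1, 33), (1, 27), (1, 34), (1, 28), (1, 75), (1, 71), (-1, 71), (-1, 75), (-1, 34), (-1, 28), (-1, 7), (1, 35), (1, 7)]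

/-- An equation. -/
def eq2_38 : Form := [(1, 32), (1, 26), (1, 34), (1, 28), (1, 75), (1, 72), (-1, 72), (-1, 75), (-1, 29), (-1, 23), (-1, 32), (-1, 26), (-1, 7), (1, 35), (1, 7)]

/-- The equations. -/
def eqs2 : List Form := [eq2_0, eq2_1, eq2_2, eq2_3, eq2_4, eq2_5, eq2_6, eq2_7, eq2_8, eq2_9, eq2_10, eq2_11, eq2_12, eq2_13, eq2_14, eq2_15, eq2_16, eq2_17, eq2_18, eq2_19, eq2_20, eq2_21, eq2_22, eq2_23, eq2_24, eq2_25, eq2_26, eq2_27, eq2_28, eq2_29, eq2_30, eq2_31, eq2_32, eq2_33, eq2_34, eq2_35, eq2_36, eq2_37, eq2_38]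

/-- A combination. -/
def comb2_3 : List (ℤ × ℕ) := [(1, 1), (2, 3), (-4, 4), (2, 6), (-1, 7), (2, 8), (-5, 9), (1, 11), (2, 12), (-26, 15), (12, 16), (12, 17), (-2, 18), (-24, 19), (-23, 25), (-2, 29), (-2, 33), (2, 34), (-7, 37), (1, 38)]

/-- A combination. -/
def comb2_4 : List (ℤ × ℕ) := [(-1, 0), (2, 1), (-2, 2), (4, 3), (-8, 4), (5, 6), (-1, 7), (7, 8), (-9, 9), (-3, 10), (1, 11), (2, 12), (5, 13), (1, 14), (-59, 15), (32, 16), (25, 17), (-1, 18), (-55, 19), (1, 20), (2, 21), (-2, 22), (-1, 23), (2, 24), (-55, 25), (2, 28), (-5, 29), (-2, 32), (-4, 33), (4, 34), (1, 35), (-1, 36), (-14, 37)]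

/-- A combination. -/
def comb2_5 : List (ℤ × ℕ) := [(-1, 1), (-2, 3), (4, 4), (-3, 6), (1, 7), (-2, 8), (5, 9), (3, 10), (-1, 11), (-2, 12), (-3, 13), (-1, 14), (25, 15), (-14, 16), (-9, 17), (-1, 18), (21, 19), (-1, 20), (-2, 21), (2, 22), (1, 23), (-2, 24), (22, 25), (-2, 28), (2, 29), (2, 32), (2, 33), (-2, 34), (-1, 35), (1, 36), (8, 37)]

/-- A combination. -/
def comb2_6 : List (ℤ × ℕ) := [(1, 6), (2, 9), (-1, 10), (1, 14), (8, 15), (-4, 16), (-4, 17), (8, 19), (-1, 23), (3, 25), (-1, 35), (1, 36), (3, 37), (-1, 38)]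

/-- A combination. -/
def comb2_7 : List (ℤ × ℕ) := [(-1, 1), (-2, 3), (4, 4), (-2, 6), (-2, 8), (4, 9), (-2, 13), (32, 15), (-17, 16), (-15, 17), (2, 18), (32, 19), (32, 25), (2, 29), (2, 33), (-2, 34), (6, 37)]

/-- A combination. -/
def comb2_8 : List (ℤ × ℕ) := []

/-- A combination. -/
def comb2_9 : List (ℤ × ℕ) := []

/-- A combination. -/
def comb2_10 : List (ℤ × ℕ) := [(1, 13), (-1, 15), (1, 16), (1, 18), (-1, 19), (-1, 32)]

/-- A combination. -/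
def comb2_11 : List (ℤ × ℕ) := [(-1, 6), (-1, 14), (2, 15), (-1, 16), (-1, 17), (1, 18), (2, 19), (2, 25)]

/-- A combination. -/
def comb2_12 : List (ℤ × ℕ) := [(1, 15), (-1, 17), (1, 19), (1, 25)]

/-- A combination. -/
def comb2_13 : List (ℤ × ℕ) := []

/-- A combination. -/
def comb2_14 : List (ℤ × ℕ) := [(-1, 4), (1, 6), (1, 8), (-1, 10), (1, 13), (-3, 15), (2, 16), (1, 17), (-3, 19), (-4, 25), (-1, 29)]

/-- A combination. -/
def comb2_15 : List (ℤ × ℕ) := [(2, 1), (4, 3), (-7, 4), (3, 6), (-2, 7), (3, 8), (-10, 9), (1, 11), (2, 12), (3, 13), (-50, 15), (26, 16), (22, 17), (-47, 19), (1, 20), (2, 21), (-1, 22), (1, 24), (-43, 25), (1, 28), (-3, 29), (-1, 32), (-3, 33), (3, 34), (1, 35), (-1, 36), (-14, 37), (2, 38)]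

/-- A combination. -/
def comb2_16 : List (ℤ × ℕ) := [(-1, 4), (-1, 5), (2, 6), (1, 7), (2, 8), (-2, 10), (1, 13), (1, 14), (-9, 15), (5, 16), (4, 17), (-2, 18), (-9, 19), (-1, 23), (-13, 25), (1, 26), (-1, 27), (-1, 33), (1, 34), (-1, 37), (-2, 38)]

/-- A combination. -/
def comb2_17 : List (ℤ × ℕ) := [(-1, 4), (1, 6), (1, 7), (1, 8), (-1, 9), (-1, 10), (1, 13), (-15, 15), (8, 16), (7, 17), (-1, 18), (-15, 19), (-17, 25), (-1, 29), (-1, 33), (1, 34), (-2, 37), (-1, 38)]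

/-- A combination. -/
def comb2_18 : List (ℤ × ℕ) := []

/-- A combination. -/
def comb2_19 : List (ℤ × ℕ) := [(1, 15), (-1, 16), (1, 22), (-1, 24)]

/-- A combination. -/
def comb2_20 : List (ℤ × ℕ) := [(-1, 4), (2, 6), (1, 7), (1, 8), (-2, 10), (1, 13), (1, 14), (-9, 15), (5, 16), (4, 17), (-2, 18), (-9, 19), (-1, 23), (-13, 25), (1, 26), (-1, 27), (-1, 33), (1, 34), (-1, 37), (-2, 38)]

/-- A combination. -/
def comb2_21 : List (ℤ × ℕ) := [(1, 13), (-1, 15), (1, 16), (1, 18), (-1, 19), (-1, 25)]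

/-- A combination. -/
def comb2_22 : List (ℤ × ℕ) := [(-1, 4), (2, 6), (1, 7), (1, 8), (1, 9), (-2, 10), (1, 13), (1, 14), (-7, 15), (4, 16), (3, 17), (-2, 18), (-7, 19), (-1, 23), (-12, 25), (-1, 29), (-1, 33), (1, 34), (-2, 38)]

/-- A combination. -/
def comb2_23 : List (ℤ × ℕ) := [(1, 6), (1, 9), (2, 15), (-1, 16), (-1, 17), (-1, 18), (2, 19), (1, 25), (1, 37), (-1, 38)]

/-- A combination. -/
def comb2_24 : List (ℤ × ℕ) := []

/-- A combination. -/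
def comb2_25 : List (ℤ × ℕ) := [(1, 1), (2, 3), (-3, 4), (-1, 7), (1, 8), (-4, 9), (3, 10), (1, 13), (-1, 14), (-19, 15), (10, 16), (9, 17), (-19, 19), (1, 23), (-13, 25), (-1, 26), (1, 27), (-1, 29), (1, 30), (-1, 31), (-1, 33), (1, 34), (-5, 37), (2, 38)]

/-- A combination. -/
def comb2_26 : List (ℤ × ℕ) := [(1, 7), (1, 9), (-1, 25), (1, 37), (-1, 38)]

/-- A combination. -/
def comb2_27 : List (ℤ × ℕ) := [(1, 10), (2, 15), (-1, 16), (-1, 17), (2, 19), (3, 25), (1, 37)]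

/-- A combination. -/
def comb2_28 : List (ℤ × ℕ) := [(1, 9), (4, 15), (-2, 16), (-2, 17), (4, 19), (4, 25), (1, 37)]

/-- A combination. -/
def comb2_29 : List (ℤ × ℕ) := [(-1, 6), (1, 18)]

/-- A combination. -/
def comb2_30 : List (ℤ × ℕ) := [(-1, 19)]

/-- A combination. -/
def comb2_31 : List (ℤ × ℕ) := [(-1, 10), (-2, 15), (1, 16), (1, 17), (-2, 19), (-4, 25), (-1, 29)]

/-- A combination. -/
def comb2_32 : List (ℤ × ℕ) := [(-1, 18)]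

/-- A combination. -/
def comb2_33 : List (ℤ × ℕ) := [(-1, 10), (-1, 25)]

/-- A combination. -/
def comb2_34 : List (ℤ × ℕ) := [(-1, 25)]

/-- A combination. -/
def comb2_35 : List (ℤ × ℕ) := [(-2, 15), (1, 16), (1, 17), (-2, 19), (-2, 25)]

/-- The inner rules with combinations. -/
def targets2 : List (ℕ × ℤ × List (ℤ × ℕ)) := [(3, 0, comb2_3), (4, 0, comb2_4), (5, 0, comb2_5), (6, 0, comb2_6), (7, 0, comb2_7), (8, 0, comb2_8), (9, 0, comb2_9), (10, 0, comb2_10), (11, 0, comb2_11), (12, 0, comb2_12), (13, 0, comb2_13), (14, 0, comb2_14), (15, 0, comb2_15), (16, 0, comb2_16), (17, 0, comb2_17), (18, 0, comb2_18), (19, 0, comb2_19), (20, 0, comb2_20), (21, 0, comb2_21), (22, 0, comb2_22), (23, 0, comb2_23), (24, 0, comb2_24), (25, 0, comb2_25), (26, 0, comb2_26), (27, 0, comb2_27), (28, 0, comb2_28), (29, 0, comb2_29), (30, 0, comb2_30), (31, 0, comb2_31), (32, 0, comb2_32),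 (33, 0, comb2_33), (34, 0, comb2_34), (35, 0, comb2_35)]

/-- The certificate. -/
def cert2 : Cert where
  r := 8
  a := 3
  p := 2
  fuel := 24
  width := 7
  rules := rules2
  ix := [[0, 36, 36, 36, 36, 36, 36, 36], [8, 1, 36, 36, 36, 36, 36, 36], [9, 10, 2, 36, 36, 36, 36, 36], [11, 12, 13, 3, 36, 36, 36, 36], [14, 15, 16, 17, 4, 36, 36, 36], [18, 19, 20, 21, 22, 5, 36, 36], [23, 24, 25, 26, 27, 28, 6, 36], [29, 30, 31, 32, 33, 34, 35, 7]]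
  ovl := ovl2
  fus := fus2
  eqs := eqs2
  lam := [[], [], [], [(-1, 8)], [(-1, 9)], [(-1, 13)], [(-1, 18)], [(-1, 24)]]
  gen := []
  b := 1
  m := 1
  genC := []
  targets := targets2

end CfsgLib.Schur.Sporadic.Ly
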