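import Cfsg.Agent.Lib.Schur.TailsCert

/-!
Data for the 3-part of the multiplier of the Lyons group.
-/

set_option autoImplicit false
set_option maxRecDepth 100000

namespace CfsgLib.Schur.Sporadic.Ly

open CfsgLib.Schur.Tails

/-- The rules. -/
def rules3 : List Rule := [
  ([0, 0, 0], []),
  ([1, 1, 1], []),
  ([2, 2, 2], []),
  ([3, 3, 3], []),
  ([4, 4, 4], []),
  ([5, 5, 5], []),
  ([6, 6, 6], []),
  ([1, 0], [0, 1, 3]),
  ([2, 0], [0, 2, 4]),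
  ([2, 1], [1, 2]),
  ([3, 0], [0, 3]),
  ([3, 1], [1, 3, 5]),
  ([3, 2], [2, 3, 6]),
  ([4, 0], [0, 4]),
  ([4, 1], [1, 4, 6]),
  ([4, 2], [2, 4, 5, 6, 6]),
  ([4, 3], [3, 4]),
  ([5, 0], [0, 5]),
  ([5, 1], [1, 5]),
  ([5, 2], [2, 5]),
  ([5, 3], [3, 5]),
  ([5, 4], [4, 5]),
  ([6, 0], [0, 6]),
  ([6, 1], [1, 6]),
  ([6, 2], [2, 6]),
  ([6, 3], [3, 6]),
  ([6, 4], [4, 6]),
  ([6, 5], [5, 6])]

/-- Overlaps. -/
def ovl3 : List (List ℕ × ℕ × List ℕ) := [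
  ]

/-- Fusions. -/
def fus3 : List Fus := [
  ⟨[[0], [1], [2], [3, 3, 4, 4, 5, 5], [3, 4, 4, 5, 6], [5], [5, 5, 6]], [[0, 0], [1], [2], [3, 4, 5], [3, 3, 4, 5, 5, 6, 6], [5, 5], [5, 6, 6]], [([4, 4, 4], []), ([5, 5, 5], []), ([6, 6, 6], []), ([1, 0], [0, 1, 3, 4, 4, 6]), ([2, 0], [0, 2, 3, 4, 5, 5, 6, 6]), ([3, 1], [1, 3, 5, 6, 6]), ([3, 2], [2, 3, 5, 5]), ([4, 1], [1, 4, 6, 6]), ([4, 2], [2, 4, 5, 6, 6]), ([5, 1], [1, 5]), ([5, 2], [2, 5]), ([6, 1], [1, 6]), ([6, 2], [2, 6])]⟩,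
  ⟨[[0, 4, 5, 5, 6], [0, 0, 3, 4, 6], [0, 0, 3, 3, 4, 4, 5, 5], [0, 0, 3, 4, 4, 5, 6], [0]], [[0, 0, 3, 4, 6], [0, 0, 3, 3, 4, 4, 5, 5], [0, 0, 3], [0, 0, 3, 3, 4, 5, 6, 6], [0, 0, 3, 4, 4, 5, 6]], [([1, 0], [0, 1]), ([2, 0], [0, 2]), ([3, 0], [0, 3])]⟩,
  ⟨[[0], [1], [2], [3, 3, 4, 4, 5, 5], [3, 4, 4, 5, 6], [5], [5, 5, 6]], [[0, 0, 3, 3, 4, 4, 5, 5], [1, 2, 2], [2, 2], [3, 4, 5, 5, 6, 6], [3, 3, 5, 6], [5], [5, 6, 6]], [([4, 4, 4], []), ([1, 0], [0, 1, 3, 4, 4, 6]), ([2, 0], [0, 2, 3, 4, 5, 5, 6, 6]), ([2, 1], [1, 2]), ([3, 0], [0, 3]), ([3, 1], [1, 3, 5, 6, 6]), ([3, 2], [2, 3, 5, 5]), ([4, 3], [3, 4]), ([5, 0], [0, 5]), ([5, 3], [3, 5]), ([6, 0], [0, 6]), ([6, 4], [4, 6]), ([6, 5], [5, 6])]⟩]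

/-- An equation. -/
def eq3_0 : Form := [(1, 25), (1, 25), (1, 20), (1, 20), (1, 16), (1, 3), (1, 25), (1, 25), (1, 20), (1, 20), (1, 16), (1, 26), (1, 26), (1, 21), (1, 21), (1, 27), (1, 27), (1, 5), (1, 27), (1, 27), (1, 6), (1, 25), (1, 20), (1, 16), (1, 16), (1, 25), (1, 20), (1, 16), (1, 16), (1, 3), (1, 26), (1, 21), (1, 4), (1, 27), (1, 27), (1, 5), (1, 6), (1, 32), (1, 32), (1, 32), (-1, 25), (-1, 20), (-1, 16), (-1, 16), (-1, 26), (-1, 21), (-1, 4), (-1, 26), (-1, 21), (-1, 27), (-1, 25), (-1, 25), (-1, 20), (-1, 20), (-1, 16), (-1, 3), (-1, 26), (-1, 26), (-1, 21), (-1, 21), (-1, 26), (-1, 26), (-1, 21), (-1, 21), (-1, 4), (-1, 27), (-1, 27), (-1, 5), (-1, 6)]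

/-- An equation. -/
def eq3_1 : Form := [(1, 5), (1, 5), (1, 33), (1, 33), (1, 33), (-1, 5)]

/-- An equation. -/
def eq3_2 : Form := [(1, 27), (1, 27), (1, 6), (1, 27), (1, 5), (1, 6), (1, 34), (1, 34), (1, 34), (-1, 27), (-1, 5), (-1, 27), (-1, 27), (-1, 27), (-1, 27), (-1, 27), (-1, 5), (-1, 6)]

/-- An equation. -/
def eq3_3 : Form := [(1, 7), (1, 10), (1, 7), (-1, 20), (-1, 16), (-1, 20), (-1, 16), (-1, 3), (-1, 21), (-1, 5), (-1, 25), (-1, 25), (-1, 16), (-1, 16), (-1, 25), (-1, 25), (-1, 16), (-1, 16), (-1, 26), (-1, 26), (-1, 4), (-1, 27), (-1, 27), (-1, 27), (-1, 27), (-1, 6), (-1, 27), (-1, 5), (-1, 6), (1, 29), (1, 28), (-1, 28), (-1, 29), (-1, 31), (-1, 32), (-1, 32), (-1, 34), (-1, 7), (1, 20), (1, 20), (1, 16), (1, 16), (1, 3), (1, 21), (1, 21), (1, 4), (1, 21), (1, 21), (1, 5), (1, 25), (1, 16), (1, 26), (1, 26), (1, 4), (1, 27), (1, 27), (1, 27), (1, 27), (1,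 27), (1, 5), (1, 6)]

/-- An equation. -/
def eq3_4 : Form := [(1, 8), (1, 13), (1, 8), (-1, 20), (-1, 16), (-1, 20), (-1, 16), (-1, 3), (-1, 21), (-1, 5), (-1, 27), (-1, 27), (-1, 27), (-1, 27), (-1, 27), (-1, 27), (-1, 5), (-1, 27), (-1, 27), (-1, 27), (-1, 27), (-1, 6), (-1, 27), (-1, 5), (-1, 6), (1, 30), (1, 28), (-1, 28), (-1, 30), (-1, 31), (-1, 32), (-1, 33), (-1, 33), (-1, 34), (-1, 34), (-1, 8), (1, 20), (1, 20), (1, 16), (1, 16), (1, 3), (1, 21), (1, 21), (1, 4), (1, 21), (1, 21), (1, 5), (1, 27), (1, 27), (1, 27), (1, 5), (1, 27), (1, 27), (1, 27), (1, 27), (1, 27), (1, 5), (1, 6)]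

/-- An equation. -/
def eq3_5 : Form := [(1, 18), (1, 14), (1, 11), (1, 21), (1, 27), (-1, 5), (-1, 27), (-1, 27), (-1, 6), (1, 31), (1, 29), (-1, 29), (-1, 31), (-1, 33), (-1, 34), (-1, 34), (-1, 18), (-1, 18), (-1, 14), (-1, 14), (-1, 11), (-1, 11), (-1, 20), (-1, 21), (-1, 21), (-1, 26), (-1, 21), (-1, 21), (-1, 27), (-1, 27), (-1, 5), (-1, 27), (-1, 27), (1, 5), (1, 27), (1, 5), (1, 27)]

/-- An equation. -/
def eq3_6 : Form := [(1, 19), (1, 15), (1, 12), (1, 26), (1, 27), (1, 6), (-1, 5), (1, 31), (1, 30), (-1, 30), (-1, 31), (-1, 33), (-1, 33), (-1, 19), (-1, 19), (-1, 15), (-1, 15), (-1, 12), (-1, 12), (-1, 25), (-1, 26), (-1, 26), (-1, 27), (-1, 27), (-1, 6), (-1, 26), (-1, 21), (-1, 27), (-1, 6), (-1, 5), (1, 5)]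

/-- An equation. -/
def eq3_7 : Form := [(1, 23), (1, 23), (1, 18), (1, 18), (1, 14), (1, 11), (1, 11), (1, 20), (1, 21), (1, 21), (1, 27), (1, 5), (1, 27), (1, 6), (-1, 27), (-1, 27), (-1, 5), (-1, 6), (-1, 27), (-1, 6), (1, 32), (1, 29), (-1, 29), (-1, 32), (-1, 34), (-1, 34), (-1, 23), (-1, 18), (-1, 14), (-1, 14), (-1, 11), (-1, 21), (-1, 26), (-1, 21), (-1, 27), (-1, 27), (-1, 6), (1, 27), (1, 27), (1, 5), (1, 27), (1, 27), (1, 27), (1, 27), (1, 6)]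

/-- An equation. -/
def eq3_8 : Form := [(1, 24), (1, 24), (1, 19), (1, 19), (1, 15), (1, 12), (1, 12), (1, 25), (1, 26), (1, 26), (1, 27), (1, 27), (1, 6), (1, 27), (1, 27), (1, 5), (1, 6), (-1, 27), (-1, 27), (-1, 5), (-1, 27), (-1, 27), (-1, 27), (-1, 27), (-1, 6), (-1, 27), (-1, 5), (-1, 6), (1, 32), (1, 30), (-1, 30), (-1, 32), (-1, 33), (-1, 34), (-1, 34), (-1, 24), (-1, 19), (-1, 15), (-1, 15), (-1, 12), (-1, 26), (-1, 27), (-1, 6), (-1, 21), (-1, 27), (-1, 27), (-1, 5), (-1, 6), (1, 27), (1, 27), (1, 5), (1, 27), (1, 27), (1, 27), (1, 27), (1, 27), (1, 5), (1, 6)]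

/-- An equation. -/
def eq3_9 : Form := [(1, 18), (1, 18), (1, 33), (1, 29), (-1, 29), (-1, 33), (-1, 18)]

/-- An equation. -/
def eq3_10 : Form := [(1, 19), (1, 19), (1, 33), (1, 30), (-1, 30), (-1, 33), (-1, 19)]

/-- An equation. -/
def eq3_11 : Form := [(1, 23), (1, 23), (1, 18), (1, 34), (1, 29), (-1, 29), (-1, 34), (-1, 23), (-1, 18), (-1, 18)]

/-- An equation. -/
def eq3_12 : Form := [(1, 24), (1, 24), (1, 19), (1, 34), (1, 30), (-1, 30), (-1, 34), (-1, 24), (-1, 19), (-1, 19)]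

/-- An equation. -/
def eq3_13 : Form := [(1, 17), (1, 17), (1, 13), (1, 13), (1, 10), (1, 10), (1, 0), (1, 17), (1, 17), (1, 13), (1, 13), (1, 10), (1, 10), (1, 20), (1, 20), (1, 16), (1, 16), (1, 3), (1, 21), (1, 21), (1, 4), (-1, 22), (-1, 13), (-1, 10), (-1, 0), (-1, 22), (-1, 13), (-1, 10), (-1, 25), (-1, 16), (-1, 25), (-1, 16), (-1, 3), (-1, 26), (-1, 26), (-1, 4), (-1, 27), (-1, 27), (1, 36), (1, 35), (-1, 35), (-1, 36), (-1, 22), (-1, 13), (-1, 10), (-1, 0), (-1, 26), (-1, 27), (-1, 27), (1, 22), (1, 17), (1, 17), (1, 13), (1, 22), (1, 17), (1, 17), (1, 13), (1, 0), (1, 25), (1, 20), (1, 20), (1, 16), (1, 26), (1, 21), (1, 21)]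

/-- An equation. -/
def eq3_14 : Form := [(1, 10), (1, 0), (1, 10), (-1, 22), (-1, 13), (-1, 10), (-1, 0), (-1, 22), (-1, 13), (-1, 10), (-1, 25), (-1, 16), (1, 37), (1, 35), (-1, 35), (-1, 37), (-1, 17), (-1, 17), (-1, 13), (-1, 13), (-1, 10), (-1, 10), (-1, 0), (-1, 21), (-1, 21), (-1, 4), (-1, 5), (1, 22), (1, 17), (1, 17), (1, 13), (1, 22), (1, 17), (1, 17), (1, 13), (1, 0), (1, 25), (1, 20), (1, 20), (1, 16), (1, 25), (1, 20), (1, 20), (1, 16), (1, 26), (1, 21), (1, 21), (1, 26), (1, 21), (1, 21), (1, 4), (1, 27), (1, 5), (1, 27)]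

/-- An equation. -/
def eq3_15 : Form := [(1, 22), (1, 22), (1, 17), (1, 13), (1, 10), (1, 10), (1, 0), (1, 22), (1, 22), (1, 17), (1, 13), (1, 10), (1, 10), (1, 25), (1, 25), (1, 20), (1, 16), (1, 3), (1, 26), (1, 26), (1, 21), (1, 6), (-1, 22), (-1, 13), (-1, 10), (-1, 0), (-1, 22), (-1, 13), (-1, 10), (-1, 25), (-1, 16), (-1, 25), (-1, 16), (-1, 3), (-1, 26), (-1, 27), (-1, 6), (1, 38), (1, 35), (-1, 35), (-1, 38), (-1, 22), (-1, 17), (-1, 13), (-1, 13), (-1, 10), (-1, 0), (-1, 26), (-1, 21), (-1, 4), (-1, 27), (-1, 27), (-1, 5), (1, 22), (1, 17), (1, 17), (1, 13), (1, 22), (1, 17), (1, 17), (1, 13), (1, 0), (1, 25), (1, 20), (1, 20), (1, 16), (1, 26), (1, 21), (1, 21), (1, 26), (1, 21), (1, 21), (1, 4), (1, 27), (1, 5)]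

/-- An equation. -/
def eq3_16 : Form := [(1, 25), (1, 20), (1, 3), (1, 25), (1, 20), (1, 27), (1, 25), (1, 25), (1, 20), (1, 20), (1, 25), (1, 25), (1, 20), (1, 20), (1, 3), (1, 27), (1, 27), (1, 5), (1, 6), (1, 46), (1, 46), (1, 46), (-1, 25), (-1, 20), (-1, 16), (-1, 16), (-1, 26), (-1, 21), (-1, 4), (-1, 26), (-1, 21), (-1, 27), (-1, 25), (-1, 25), (-1, 20), (-1, 20), (-1, 16), (-1, 3), (-1, 26), (-1, 26), (-1, 21), (-1, 21), (-1, 26), (-1, 26), (-1, 21), (-1, 21), (-1, 4), (-1, 27), (-1, 27), (-1, 5), (-1, 6)]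

/-- An equation. -/
def eq3_17 : Form := [(1, 8), (1, 8), (1, 7), (1, 12), (1, 26), (1, 24), (1, 15), (1, 12), (1, 26), (1, 27), (1, 6), (1, 26), (1, 21), (1, 22), (1, 17), (1, 13), (1, 13), (1, 10), (1, 8), (1, 8), (1, 7), (1, 12), (1, 26), (1, 24), (1, 15), (1, 12), (1, 26), (1, 27), (1, 6), (1, 26), (1, 21), (1, 25), (1, 20), (1, 16), (1, 16), (1, 26), (1, 21), (1, 4), (1, 26), (1, 21), (1, 27), (1, 25), (1, 25), (1, 20), (1, 20), (1, 16), (1, 3), (1, 25), (1, 25), (1, 20), (1, 20), (1, 16), (1, 26), (1, 26), (1, 21), (1, 21), (1, 26), (1, 26), (1, 21), (1, 21), (1, 4), (1, 27), (1, 27), (1, 5), (1, 27), (1, 27), (-1, 18), (-1, 18), (-1, 14), (-1, 14), (-1, 11), (-1, 11), (-1, 20), (-1, 21), (-1, 21), (-1, 26), (-1, 21), (-1, 21), (-1, 27), (-1, 27), (-1, 5), (-1, 27), (-1, 27), (-1, 24), (-1, 24), (-1, 19), (-1, 15), (-1, 15), (-1, 12), (-1, 12), (-1, 25), (-1, 26), (-1,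 26), (-1, 27), (-1, 27), (-1, 6), (-1, 26), (-1, 21), (-1, 27), (-1, 6), (-1, 5), (-1, 24), (-1, 24), (-1, 15), (-1, 15), (-1, 12), (-1, 12), (-1, 25), (-1, 26), (-1, 26), (-1, 27), (-1, 27), (-1, 6), (-1, 26), (-1, 21), (-1, 27), (-1, 6), (-1, 25), (-1, 25), (-1, 20), (-1, 20), (-1, 16), (-1, 16), (-1, 3), (-1, 26), (-1, 26), (-1, 21), (-1, 21), (-1, 4), (-1, 27), (-1, 27), (-1, 5), (-1, 27), (-1, 27), (-1, 6), (-1, 25), (-1, 20), (-1, 25), (-1, 20), (-1, 27), (-1, 25), (-1, 25), (-1, 20), (-1, 20), (-1, 3), (-1, 25), (-1, 25), (-1, 20), (-1, 20), (-1, 27), (-1, 27), (-1, 5), (-1, 6), (1, 43), (1, 42), (-1, 42), (-1, 43), (-1, 45), (-1, 46), (-1, 46), (-1, 48), (-1, 7), (1, 20), (1, 20), (1, 16), (1, 16), (1, 3), (1, 21), (1, 21), (1, 4), (1, 21), (1, 21), (1, 5), (1, 25), (1, 16), (1, 26), (1, 26), (1, 4), (1, 27), (1, 27), (1, 27), (1, 27), (1, 27), (1, 5), (1, 6)]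

/-- An equation. -/
def eq3_18 : Form := [(1, 8), (1, 8), (1, 15), (1, 26), (1, 26), (1, 21), (1, 22), (1, 22), (1, 17), (1, 13), (1, 13), (1, 8), (1, 8), (1, 15), (1, 26), (1, 26), (1, 21), (1, 26), (1, 26), (1, 21), (1, 4), (1, 26), (1, 26), (1, 21), (1, 27), (1, 27), (1, 6), (1, 25), (1, 20), (1, 20), (1, 16), (1, 25), (1, 20), (1, 20), (1, 16), (1, 26), (1, 21), (1, 21), (1, 26), (1, 21), (1, 21), (1, 4), (1, 27), (1, 5), (1, 27), (-1, 19), (-1, 19), (-1, 15), (-1, 15), (-1, 12), (-1, 12), (-1, 25), (-1, 26), (-1, 26), (-1, 27), (-1, 27), (-1, 6), (-1, 26), (-1, 21), (-1, 27), (-1, 6), (-1, 5), (-1, 19), (-1, 15), (-1, 15), (-1, 12), (-1, 12), (-1, 25), (-1, 26), (-1, 26), (-1, 27), (-1, 27), (-1, 6), (-1, 26), (-1, 21), (-1, 27), (-1, 6), (-1, 5), (-1, 16), (-1, 16), (-1, 3), (-1, 4), (-1, 25), (-1, 25), (-1, 20), (-1, 20), (-1, 25), (-1, 25), (-1, 20), (-1, 20), (-1, 27),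 (-1, 27), (-1, 5), (-1, 6), (-1, 5), (-1, 27), (-1, 27), (-1, 6), (1, 44), (1, 42), (-1, 42), (-1, 44), (-1, 45), (-1, 46), (-1, 47), (-1, 47), (-1, 48), (-1, 48), (-1, 8), (1, 20), (1, 20), (1, 16), (1, 16), (1, 3), (1, 21), (1, 21), (1, 4), (1, 21), (1, 21), (1, 5), (1, 27), (1, 27), (1, 27), (1, 5), (1, 27), (1, 27), (1, 27), (1, 27), (1, 27), (1, 5), (1, 6)]

/-- An equation. -/
def eq3_19 : Form := [(1, 9), (1, 9), (1, 2), (-1, 2), (1, 44), (1, 43), (-1, 43), (-1, 44), (-1, 9)]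

/-- An equation. -/
def eq3_20 : Form := [(1, 22), (1, 22), (1, 17), (1, 17), (1, 13), (1, 10), (1, 22), (1, 22), (1, 17), (1, 17), (1, 13), (1, 10), (1, 25), (1, 25), (1, 20), (1, 20), (1, 16), (1, 25), (1, 25), (1, 20), (1, 20), (1, 16), (1, 3), (1, 26), (1, 26), (1, 21), (1, 21), (1, 26), (1, 26), (1, 21), (1, 21), (1, 4), (1, 27), (1, 27), (1, 5), (1, 27), (1, 27), (-1, 20), (-1, 20), (-1, 16), (-1, 16), (-1, 3), (-1, 21), (-1, 21), (-1, 4), (-1, 5), (1, 45), (1, 42), (-1, 42), (-1, 45), (-1, 17), (-1, 17), (-1, 13), (-1, 13), (-1, 10), (-1, 10)]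

/-- An equation. -/
def eq3_21 : Form := [(1, 23), (1, 23), (1, 18), (1, 18), (1, 14), (1, 11), (1, 21), (1, 27), (1, 27), (1, 5), (1, 6), (1, 15), (1, 12), (1, 26), (1, 27), (1, 6), (1, 19), (1, 15), (1, 12), (1, 26), (1, 27), (1, 6), (-1, 27), (-1, 27), (-1, 5), (-1, 27), (-1, 27), (-1, 6), (-1, 27), (-1, 6), (1, 45), (1, 43), (-1, 43), (-1, 45), (-1, 47), (-1, 48), (-1, 48), (-1, 18), (-1, 18), (-1, 14), (-1, 14), (-1, 11), (-1, 11), (-1, 20), (-1, 21), (-1, 21), (-1, 26), (-1, 21), (-1, 21), (-1, 27), (-1, 27), (-1, 5), (-1, 27), (-1, 27), (1, 5), (1, 27), (1, 5), (1, 27)]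

/-- An equation. -/
def eq3_22 : Form := [(1, 24), (1, 24), (1, 19), (1, 19), (1, 15), (1, 12), (1, 26), (1, 27), (1, 6), (1, 5), (1, 24), (1, 24), (1, 15), (1, 12), (1, 26), (1, 27), (1, 6), (-1, 27), (-1, 27), (-1, 5), (-1, 27), (-1, 27), (1, 45), (1, 44), (-1, 44), (-1, 45), (-1, 47), (-1, 47), (-1, 19), (-1, 19), (-1, 15), (-1, 15), (-1, 12), (-1, 12), (-1, 25), (-1, 26), (-1, 26), (-1, 27), (-1, 27), (-1, 6), (-1, 26), (-1, 21), (-1, 27), (-1, 6), (-1, 5), (1, 5)]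

/-- An equation. -/
def eq3_23 : Form := [(1, 25), (1, 20), (1, 3), (1, 26), (1, 21), (1, 27), (1, 27), (1, 5), (1, 6), (-1, 25), (-1, 25), (-1, 20), (-1, 20), (-1, 16), (-1, 25), (-1, 25), (-1, 20), (-1, 20), (-1, 16), (-1, 3), (-1, 27), (-1, 27), (-1, 5), (-1, 6), (1, 46), (1, 45), (-1, 45), (-1, 46), (-1, 25), (-1, 20), (-1, 16), (-1, 16), (-1, 25), (-1, 20), (-1, 16), (-1, 16), (-1, 3), (-1, 26), (-1, 21), (-1, 4), (-1, 26), (-1, 21), (-1, 27), (-1, 27), (-1, 5), (1, 20), (1, 20), (1, 16), (1, 16), (1, 3), (1, 21), (1, 21), (1, 4), (1, 21), (1, 21), (1, 5)]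

/-- An equation. -/
def eq3_24 : Form := [(1, 17), (1, 17), (1, 20), (1, 20), (1, 21), (1, 21), (1, 5), (-1, 5), (1, 47), (1, 42), (-1, 42), (-1, 47), (-1, 17)]

/-- An equation. -/
def eq3_25 : Form := [(1, 20), (1, 21), (1, 5), (-1, 27), (-1, 27), (-1, 5), (1, 47), (1, 45), (-1, 45), (-1, 47), (-1, 20), (-1, 20), (-1, 21), (-1, 21), (-1, 5), (1, 5)]

/-- An equation. -/
def eq3_26 : Form := [(1, 22), (1, 22), (1, 17), (1, 22), (1, 22), (1, 17), (1, 25), (1, 25), (1, 20), (1, 25), (1, 25), (1, 20), (1, 26), (1, 26), (1, 21), (1, 26), (1, 26), (1, 21), (1, 27), (1, 27), (1, 27), (1, 27), (1, 5), (-1, 5), (1, 48), (1, 42), (-1, 42), (-1, 48), (-1, 22), (-1, 17), (-1, 17)]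

/-- An equation. -/
def eq3_27 : Form := [(1, 25), (1, 25), (1, 20), (1, 25), (1, 25), (1, 20), (1, 27), (1, 27), (1, 6), (-1, 27), (-1, 6), (1, 48), (1, 46), (-1, 46), (-1, 48), (-1, 25), (-1, 20), (-1, 20), (-1, 26), (-1, 21), (-1, 21), (-1, 26), (-1, 21), (-1, 21), (-1, 27), (-1, 5), (1, 27), (1, 27), (1, 5)]

/-- An equation. -/
def eq3_28 : Form := [(1, 27), (1, 27), (1, 48), (1, 47), (-1, 47), (-1, 48), (-1, 27), (-1, 5), (1, 5)]

/-- The equations. -/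
def eqs3 : List Form := [eq3_0, eq3_1, eq3_2, eq3_3, eq3_4, eq3_5, eq3_6, eq3_7, eq3_8, eq3_9, eq3_10, eq3_11, eq3_12, eq3_13, eq3_14, eq3_15, eq3_16, eq3_17, eq3_18, eq3_19, eq3_20, eq3_21, eq3_22, eq3_23, eq3_24, eq3_25, eq3_26, eq3_27, eq3_28]

/-- A combination. -/
def comb3_3 : List (ℤ × ℕ) := [(800, 0), (-400, 1), (-8000, 2), (2400, 3), (-2400, 4), (-6000, 5), (7200, 6), (-4800, 8), (-3600, 9), (8400, 10), (-2400, 11), (2400, 12), (-6720, 13), (-11280, 14), (-20640, 15), (800, 16), (2400, 17), (-2400, 18), (22905, 20), (1200, 21), (1800, 22), (-4500, 23), (133710, 24), (170130, 25), (-11340, 26), (-9120, 27), (254640, 28)]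

/-- A combination. -/
def comb3_4 : List (ℤ × ℕ) := [(-800, 0), (2800, 1), (-6400, 2), (-2400, 3), (2400, 4), (-6000, 5), (7200, 6), (-4800, 8), (-3600, 9), (8400, 10), (-2400, 11), (2400, 12), (6912, 13), (11568, 14), (16224, 15), (800, 16), (2400, 17), (-2400, 18), (-36183, 20), (1200, 21), (1800, 22), (7020, 23), (-87186, 24), (-79758, 25), (35124, 26), (8352, 27), (-99984, 28)]

/-- A combination. -/
def comb3_5 : List (ℤ × ℕ) := [(-800, 1), (-2400, 5), (2400, 7), (-7200, 9), (-2400, 11), (1920, 13), (2880, 14), (3840, 15), (-6180, 20), (1200, 23), (-27960, 24), (-26280, 25), (5040, 26), (1920, 27), (-54240, 28)]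

/-- A combination. -/
def comb3_6 : List (ℤ × ℕ) := [(-800, 1), (1600, 2), (-2400, 6), (2400, 8), (-7200, 10), (-2400, 12), (-1536, 13), (-2304, 14), (-3072, 15), (9624, 20), (-960, 23), (13008, 24), (3024, 25), (-10272, 26), (-1056, 27), (-1248, 28)]

/-- A combination. -/
def comb3_7 : List (ℤ × ℕ) := []

/-- A combination. -/
def comb3_8 : List (ℤ × ℕ) := []

/-- A combination. -/
def comb3_9 : List (ℤ × ℕ) := [(1600, 19)]

/-- A combination. -/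
def comb3_10 : List (ℤ × ℕ) := [(256, 13), (384, 14), (2112, 15), (-3704, 20), (160, 23), (-5968, 24), (-5104, 25), (2912, 26), (576, 27), (-3392, 28)]

/-- A combination. -/
def comb3_11 : List (ℤ × ℕ) := []

/-- A combination. -/
def comb3_12 : List (ℤ × ℕ) := []

/-- A combination. -/
def comb3_13 : List (ℤ × ℕ) := [(1088, 13), (832, 14), (576, 15), (-1192, 20), (480, 23), (-10864, 24), (-13392, 25), (1376, 26), (448, 27), (-23616, 28)]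

/-- A combination. -/
def comb3_14 : List (ℤ × ℕ) := [(-1600, 2), (-800, 5), (800, 6), (-800, 7), (-800, 8), (800, 9), (2400, 10), (800, 11), (800, 12), (1408, 13), (2112, 14), (2816, 15), (-5372, 20), (880, 23), (-18824, 24), (-18872, 25), (4816, 26), (1568, 27), (-32256, 28)]

/-- A combination. -/
def comb3_15 : List (ℤ × ℕ) := [(-1600, 2), (800, 5), (800, 6), (-800, 7), (-2400, 8), (2400, 9), (5600, 10), (800, 11), (2400, 12), (1152, 13), (1728, 14), (2304, 15), (-6468, 20), (720, 23), (-11256, 24), (-7368, 25), (6704, 26), (992, 27), (-6464, 28)]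

/-- A combination. -/
def comb3_16 : List (ℤ × ℕ) := [(-896, 13), (-1344, 14), (-1792, 15), (3664, 20), (-960, 23), (11488, 24), (12064, 25), (-3392, 26), (-1216, 27), (19072, 28)]

/-- A combination. -/
def comb3_17 : List (ℤ × ℕ) := [(1600, 24), (3200, 25), (6400, 28)]

/-- A combination. -/
def comb3_18 : List (ℤ × ℕ) := [(1600, 9)]

/-- A combination. -/
def comb3_19 : List (ℤ × ℕ) := [(1600, 10)]

/-- A combination. -/
def comb3_20 : List (ℤ × ℕ) := [(1280, 13), (1920, 14), (2560, 15), (-4120, 20), (800, 23), (-18640, 24), (-22320, 25), (3360, 26), (1280, 27), (-36160, 28)]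

/-- A combination. -/
def comb3_21 : List (ℤ × ℕ) := [(-1280, 13), (-1920, 14), (-2560, 15), (4120, 20), (-800, 23), (18640, 24), (20720, 25), (-3360, 26), (-1280, 27), (32960, 28)]

/-- A combination. -/
def comb3_22 : List (ℤ × ℕ) := [(1600, 20), (-3200, 24), (-6400, 25), (-1600, 26), (-12800, 28)]

/-- A combination. -/
def comb3_23 : List (ℤ × ℕ) := [(1600, 9), (1600, 11)]

/-- A combination. -/
def comb3_24 : List (ℤ × ℕ) := [(1600, 10), (1600, 12)]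

/-- A combination. -/
def comb3_25 : List (ℤ × ℕ) := [(-1024, 13), (-1536, 14), (-2048, 15), (2816, 20), (-640, 23), (15872, 24), (18816, 25), (-2048, 26), (-704, 27), (29568, 28)]

/-- A combination. -/
def comb3_26 : List (ℤ × ℕ) := [(1024, 13), (1536, 14), (2048, 15), (-4016, 20), (640, 23), (-13472, 24), (-13216, 25), (3648, 26), (704, 27), (-19968, 28)]

/-- A combination. -/
def comb3_27 : List (ℤ × ℕ) := [(1600, 28)]

/-- The inner rules with combinations. -/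
def targets3 : List (ℕ × ℤ × List (ℤ × ℕ)) := [(3, 0, comb3_3), (4, 0, comb3_4), (5, 0, comb3_5), (6, 0, comb3_6), (7, 0, comb3_7), (8, 0, comb3_8), (9, 0, comb3_9), (10, 0, comb3_10), (11, 0, comb3_11), (12, 0, comb3_12), (13, 0, comb3_13), (14, 0, comb3_14), (15, 0, comb3_15), (16, 0, comb3_16), (17, 0, comb3_17), (18, 0, comb3_18), (19, 0, comb3_19), (20, 0, comb3_20), (21, 0, comb3_21), (22, 0, comb3_22), (23, 0, comb3_23), (24, 0, comb3_24), (25, 0, comb3_25), (26, 0, comb3_26), (27, 0, comb3_27)]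

/-- The certificate. -/
def cert3 : Cert where
  r := 7
  a := 3
  p := 3
  fuel := 90
  width := 7
  rules := rules3
  ix := [[0, 28, 28, 28, 28, 28, 28], [7, 1, 28, 28, 28, 28, 28], [8, 9, 2, 28, 28, 28, 28], [10, 11, 12, 3, 28, 28, 28], [13, 14, 15, 16, 4, 28, 28], [17, 18, 19, 20, 21, 5, 28], [22, 23, 24, 25, 26, 27, 6]]
  ovl := ovl3
  fus := fus3
  eqs := eqs3
  lam := [[], [], [], [(-1, 7)], [(-1, 8)], [(-1, 11)], [(-1, 12)]]
  gen := []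
  b := 1
  m := 1600
  genC := []
  targets := targets3

end CfsgLib.Schur.Sporadic.Ly
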