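import Cfsg.Agent.Lib.Schur.TailsCert

/-!
Data for the 5-part of the multiplier of the Lyons group.
-/

set_option autoImplicit false
set_option maxRecDepth 100000

namespace CfsgLib.Schur.Sporadic.Ly

open CfsgLib.Schur.Tails

/-- The rules. -/
def rules5 : List Rule := [
  ([0, 0, 0, 0, 0], []),
  ([1, 1, 1, 1, 1], []),
  ([2, 2, 2, 2, 2], []),
  ([3, 3, 3, 3, 3], []),
  ([4, 4, 4, 4, 4], []),
  ([5, 5, 5, 5, 5], []),
  ([1, 0], [0, 1, 2]),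
  ([2, 0], [0, 2]),
  ([2, 1], [1, 2, 3]),
  ([3, 0], [0, 3, 5]),
  ([3, 1], [1, 3, 4]),
  ([3, 2], [2, 3, 5]),
  ([4, 0], [0, 4, 5]),
  ([4, 1], [1, 4]),
  ([4, 2], [2, 4]),
  ([4, 3], [3, 4]),
  ([5, 0], [0, 5]),
  ([5, 1], [1, 5]),
  ([5, 2], [2, 5]),
  ([5, 3], [3, 5]),
  ([5, 4], [4, 5])]

/-- Overlaps. -/
def ovl5 : List (List ℕ × ℕ × List ℕ) := [
  ]

/-- Fusions. -/
def fus5 : List Fus := [
  ⟨[[0], [1], [2, 2, 2, 3, 3, 5, 5], [3, 3, 3, 4, 4, 5, 5, 5], [4, 4, 4, 5, 5, 5, 5], [5, 5]], [[0, 0], [1], [2, 3, 3, 3, 3], [3, 4, 4, 4, 4], [4, 5], [5, 5, 5]], [([2, 2, 2, 2, 2], []), ([3, 3, 3, 3, 3], []), ([4, 4, 4, 4, 4], []), ([5, 5, 5, 5, 5], []), ([1, 0], [0, 1, 2, 2, 3, 3, 4, 4, 5, 5, 5]), ([2, 0], [0, 2, 5]), ([2, 1], [1, 2, 3]), ([3, 0], [0, 3]), ([3, 1], [1, 3, 4, 5, 5, 5]), ([3, 2], [2, 3, 5, 5]), ([4, 0], [0, 4, 5, 5, 5, 5]), ([4, 1], [1, 4]), ([4, 2], [2, 4]), ([4,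 3], [3, 4]), ([5, 0], [0, 5]), ([5, 1], [1, 5]), ([5, 2], [2, 5]), ([5, 3], [3, 5]), ([5, 4], [4, 5])]⟩]

/-- An equation. -/
def eq5_0 : Form := [(1, 11), (1, 11), (1, 11), (1, 11), (1, 19), (1, 19), (1, 19), (1, 19), (1, 19), (1, 19), (1, 19), (1, 19), (1, 19), (1, 19), (1, 3), (1, 19), (1, 19), (1, 19), (1, 19), (1, 19), (1, 19), (1, 19), (1, 19), (1, 19), (1, 19), (1, 19), (1, 19), (1, 18), (1, 18), (1, 18), (1, 18), (1, 11), (1, 11), (1, 11), (1, 19), (1, 19), (1, 19), (1, 5), (1, 19), (1, 19), (1, 19), (1, 19), (1, 3), (1, 19), (1, 19), (1, 19), (1, 19), (1, 18), (1, 18), (1, 11), (1, 11), (1, 19), (1, 19), (1, 19), (1, 19), (1, 19), (1, 19), (1, 19), (1, 19), (1, 19), (1, 19), (1, 19), (1, 19), (1, 19), (1, 3), (1, 19), (1, 19), (1, 19), (1, 19), (1, 18), (1, 18), (1, 18), (1, 18), (1, 11), (1, 2), (1, 5), (1, 3), (1, 23), (1, 23), (1, 23), (1, 23), (1, 23), (-1, 18),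 (-1, 18), (-1, 11), (-1, 11), (-1, 19), (-1, 18), (-1, 18), (-1, 18), (-1, 18), (-1, 11), (-1, 11), (-1, 2), (-1, 19), (-1, 5), (-1, 18), (-1, 11), (-1, 11), (-1, 19), (-1, 19), (-1, 19), (-1, 19), (-1, 19), (-1, 19), (-1, 19), (-1, 5), (-1, 11), (-1, 11), (-1, 11), (-1, 11), (-1, 19), (-1, 19), (-1, 19), (-1, 19), (-1, 19), (-1, 19), (-1, 18), (-1, 18), (-1, 18), (-1, 18), (-1, 11), (-1, 11), (-1, 11), (-1, 11), (-1, 19), (-1, 19), (-1, 19), (-1, 19), (-1, 19), (-1, 19), (-1, 5), (-1, 18), (-1, 18), (-1, 18), (-1, 11), (-1, 11), (-1, 11), (-1, 11), (-1, 19), (-1, 19), (-1, 19), (-1, 19), (-1, 19), (-1, 19), (-1, 5), (-1, 19), (-1, 19), (-1, 3), (-1, 19), (-1, 19), (-1, 18), (-1, 18), (-1, 18), (-1, 18), (-1, 11), (-1, 2), (-1, 5), (-1, 11), (-1, 18), (-1, 11), (-1, 19), (-1, 19), (-1, 19), (-1, 19), (-1, 18), (-1, 18), (-1, 18), (-1, 18), (-1, 11), (-1, 11), (-1, 11), (-1,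 19), (-1, 19), (-1, 19), (-1, 5), (-1, 18), (-1, 18), (-1, 11), (-1, 11), (-1, 11), (-1, 19), (-1, 19), (-1, 19), (-1, 5), (-1, 11), (-1, 11), (-1, 11), (-1, 2), (-1, 19), (-1, 19), (-1, 19), (-1, 19), (-1, 19), (-1, 19), (-1, 19), (-1, 19), (-1, 19), (-1, 3), (-1, 5)]

/-- An equation. -/
def eq5_1 : Form := [(1, 15), (1, 15), (1, 15), (1, 15), (1, 4), (1, 15), (1, 15), (1, 15), (1, 4), (1, 15), (1, 15), (1, 4), (1, 15), (1, 3), (1, 4), (1, 24), (1, 24), (1, 24), (1, 24), (1, 24), (-1, 19), (-1, 19), (-1, 19), (-1, 15), (-1, 15), (-1, 19), (-1, 19), (-1, 19), (-1, 15), (-1, 15), (-1, 3), (-1, 19), (-1, 19), (-1, 19), (-1, 15), (-1, 15), (-1, 20), (-1, 20), (-1, 20), (-1, 20), (-1, 20), (-1, 20), (-1, 5), (-1, 19), (-1, 15), (-1, 15), (-1, 15), (-1, 15), (-1, 19), (-1, 15), (-1, 15), (-1, 15), (-1, 15), (-1, 19), (-1, 15), (-1, 15), (-1, 15), (-1, 15), (-1, 20), (-1, 4), (-1,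 20), (-1, 19), (-1, 19), (-1, 19), (-1, 19), (-1, 15), (-1, 3), (-1, 19), (-1, 19), (-1, 19), (-1, 19), (-1, 15), (-1, 19), (-1, 19), (-1, 19), (-1, 19), (-1, 15), (-1, 20), (-1, 20), (-1, 20), (-1, 20), (-1, 20), (-1, 20), (-1, 20), (-1, 20), (-1, 5), (-1, 19), (-1, 19), (-1, 15), (-1, 15), (-1, 15), (-1, 19), (-1, 19), (-1, 15), (-1, 15), (-1, 15), (-1, 19), (-1, 19), (-1, 15), (-1, 15), (-1, 15), (-1, 3), (-1, 20), (-1, 20), (-1, 20), (-1, 20), (-1, 4), (-1, 5)]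

/-- An equation. -/
def eq5_2 : Form := [(1, 20), (1, 20), (1, 20), (1, 20), (1, 20), (1, 20), (1, 20), (1, 20), (1, 20), (1, 20), (1, 4), (1, 5), (1, 25), (1, 25), (1, 25), (1, 25), (1, 25), (-1, 20), (-1, 20), (-1, 20), (-1, 20), (-1, 20), (-1, 20), (-1, 20), (-1, 20), (-1, 4), (-1, 20), (-1, 20), (-1, 20), (-1, 20), (-1, 5), (-1, 20), (-1, 20), (-1, 20), (-1, 20), (-1, 20), (-1, 20), (-1, 20), (-1, 20), (-1, 20), (-1, 5), (-1, 20), (-1, 20), (-1, 4), (-1, 20), (-1, 20), (-1, 20), (-1, 20), (-1, 5), (-1, 20), (-1, 20), (-1, 20), (-1, 4), (-1, 5)]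

/-- An equation. -/
def eq5_3 : Form := [(1, 5), (1, 5), (1, 5), (1, 26), (1, 26), (1, 26), (1, 26), (1, 26), (-1, 5), (-1, 5)]

/-- An equation. -/
def eq5_4 : Form := [(1, 6), (1, 7), (1, 6), (-1, 11), (-1, 11), (-1, 11), (-1, 11), (-1, 19), (-1, 19), (-1, 19), (-1, 19), (-1, 19), (-1, 19), (-1, 19), (-1, 19), (-1, 19), (-1, 19), (-1, 3), (-1, 19), (-1, 19), (-1, 19), (-1, 19), (-1, 19), (-1, 19), (-1, 19), (-1, 19), (-1, 19), (-1, 19), (-1, 19), (-1, 19), (-1, 19), (-1, 19), (-1, 19), (-1, 19), (-1, 20), (-1, 20), (-1, 20), (-1, 20), (-1, 20), (-1, 20), (-1, 20), (-1, 20), (-1, 20), (-1, 20), (-1, 20), (-1, 20), (-1, 20), (-1, 20), (-1, 20), (-1, 20), (-1, 19), (-1, 19), (-1, 19), (-1, 19), (-1, 15), (-1, 15), (-1, 15), (-1, 15), (-1, 3), (-1, 20), (-1, 20), (-1, 20), (-1, 20), (-1, 4), (-1, 20), (-1, 20), (-1, 20), (-1, 20), (-1, 20), (-1, 20), (-1, 20), (-1, 20), (-1,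 20), (-1, 20), (-1, 20), (-1, 20), (-1, 20), (-1, 20), (-1, 20), (-1, 20), (-1, 5), (-1, 4), (-1, 5), (-1, 5), (1, 22), (1, 21), (-1, 21), (-1, 22), (-1, 23), (-1, 23), (-1, 24), (-1, 24), (-1, 25), (-1, 25), (-1, 26), (-1, 26), (-1, 26), (-1, 6), (1, 18), (1, 18), (1, 11), (1, 11), (1, 19), (1, 18), (1, 18), (1, 18), (1, 18), (1, 11), (1, 11), (1, 2), (1, 19), (1, 5), (1, 18), (1, 11), (1, 11), (1, 19), (1, 19), (1, 19), (1, 19), (1, 19), (1, 19), (1, 19), (1, 5), (1, 3), (1, 19), (1, 19), (1, 19), (1, 15), (1, 15), (1, 19), (1, 19), (1, 19), (1, 15), (1, 15), (1, 19), (1, 19), (1, 19), (1, 15), (1, 15), (1, 3), (1, 20), (1, 20), (1, 20), (1, 20), (1, 20), (1, 20), (1, 5), (1, 20), (1, 4), (1, 20), (1, 20), (1, 5), (1, 4), (1, 5), (1, 5)]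

/-- An equation. -/
def eq5_5 : Form := [(1, 9), (1, 9), (1, 9), (1, 9), (1, 7), (1, 19), (1, 19), (1, 19), (1, 19), (1, 19), (1, 19), (1, 16), (1, 16), (1, 16), (1, 16), (1, 9), (1, 9), (1, 9), (1, 9), (1, 7), (1, 19), (1, 19), (1, 19), (1, 19), (1, 19), (1, 19), (1, 5), (1, 23), (1, 21), (-1, 21), (-1, 23), (-1, 26), (-1, 16), (-1, 16), (-1, 9), (-1, 9), (-1, 7), (-1, 7), (-1, 7), (-1, 19)]

/-- An equation. -/
def eq5_6 : Form := [(1, 10), (1, 10), (1, 10), (1, 10), (1, 8), (1, 15), (1, 15), (1, 15), (1, 15), (1, 15), (1, 15), (1, 3), (-1, 3), (1, 23), (1, 22), (-1, 22), (-1, 23), (-1, 24), (-1, 17), (-1, 17), (-1, 10), (-1, 10), (-1, 8), (-1, 8), (-1, 8), (-1, 11), (-1, 19), (-1, 18), (-1, 11), (-1, 11), (-1, 19), (-1, 19), (-1, 19), (-1, 19), (-1, 19), (-1, 19), (-1, 19), (-1, 20), (-1, 20), (-1, 20), (-1, 19), (-1, 19), (-1, 19), (-1, 15), (-1, 3), (-1, 20), (-1, 20),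 (-1, 20), (-1, 5), (1, 19), (1, 19), (1, 19), (1, 19), (1, 19), (1, 19), (1, 3), (1, 20), (1, 20), (1, 20), (1, 20), (1, 5)]

/-- An equation. -/
def eq5_7 : Form := [(1, 12), (1, 12), (1, 12), (1, 12), (1, 9), (1, 20), (1, 20), (1, 20), (1, 20), (1, 20), (1, 20), (1, 20), (1, 20), (1, 20), (1, 20), (1, 5), (1, 12), (1, 12), (1, 12), (1, 12), (1, 9), (1, 20), (1, 20), (1, 20), (1, 20), (1, 20), (1, 20), (1, 20), (1, 20), (1, 20), (1, 20), (1, 5), (1, 24), (1, 21), (-1, 21), (-1, 24), (-1, 16), (-1, 16), (-1, 16), (-1, 12), (-1, 12), (-1, 9), (-1, 9), (-1, 9), (-1, 19), (-1, 19), (-1, 19), (-1, 20), (-1, 20), (-1, 20), (-1, 20), (-1, 20), (-1, 20), (-1, 20), (-1, 5)]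

/-- An equation. -/
def eq5_8 : Form := [(1, 13), (1, 13), (1, 13), (1, 13), (1, 10), (1, 4), (-1, 4), (-1, 5), (-1, 5), (1, 24), (1, 22), (-1, 22), (-1, 24), (-1, 25), (-1, 26), (-1, 26), (-1, 26), (-1, 17), (-1, 17), (-1, 17), (-1, 13), (-1, 13), (-1, 10), (-1, 10), (-1, 10), (-1, 15), (-1, 15), (-1, 15), (-1, 4), (1, 20), (1, 20), (1, 20), (1, 20), (1, 20), (1, 20), (1, 20), (1, 20), (1, 20), (1, 4), (1, 5), (1, 5)]

/-- An equation. -/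
def eq5_9 : Form := [(1, 14), (1, 14), (1, 14), (1, 14), (1, 11), (1, 20), (1, 20), (1, 20), (1, 20), (1, 19), (1, 15), (1, 15), (1, 15), (1, 15), (1, 19), (1, 15), (1, 15), (1, 15), (1, 15), (1, 19), (1, 15), (1, 15), (1, 15), (1, 15), (1, 19), (1, 15), (1, 15), (1, 15), (1, 15), (1, 3), (-1, 3), (-1, 5), (1, 24), (1, 23), (-1, 23), (-1, 24), (-1, 26), (-1, 26), (-1, 18), (-1, 18), (-1, 18), (-1, 14), (-1, 14), (-1, 11), (-1, 11), (-1, 11), (-1, 19), (-1, 19), (-1, 19), (-1, 20), (-1, 20), (-1, 20), (-1, 20), (-1, 20), (-1, 20), (-1, 5), (-1, 18), (-1, 14), (-1, 14), (-1, 11), (-1, 11), (-1, 11), (-1, 19), (-1, 19), (-1, 19), (-1, 20), (-1, 20), (-1, 20), (-1, 20), (-1, 20), (-1, 20), (-1, 18), (-1, 18), (-1, 18), (-1, 18), (-1, 14), (-1, 14), (-1, 11), (-1, 11), (-1, 11), (-1, 19), (-1, 19), (-1, 19), (-1, 20), (-1, 20), (-1, 20), (-1, 20), (-1, 20), (-1, 20), (-1, 5), (-1,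 19), (-1, 19), (-1, 15), (-1, 15), (-1, 19), (-1, 19), (-1, 15), (-1, 15), (-1, 3), (1, 19), (1, 19), (1, 19), (1, 19), (1, 19), (1, 19), (1, 3), (1, 20), (1, 20), (1, 20), (1, 20), (1, 5)]

/-- An equation. -/
def eq5_10 : Form := [(1, 16), (1, 12), (1, 16), (1, 16), (1, 12), (-1, 5), (-1, 5), (1, 25), (1, 21), (-1, 21), (-1, 25), (-1, 26), (-1, 26), (-1, 26), (-1, 26), (-1, 16), (-1, 16), (-1, 16), (-1, 16), (-1, 12), (-1, 12), (-1, 12), (-1, 20), (-1, 20), (-1, 20), (-1, 5), (1, 5), (1, 5)]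

/-- An equation. -/
def eq5_11 : Form := [(1, 17), (1, 13), (1, 25), (1, 22), (-1, 22), (-1, 25), (-1, 17), (-1, 17), (-1, 17), (-1, 17), (-1, 13), (-1, 13), (-1, 13)]

/-- An equation. -/
def eq5_12 : Form := [(1, 18), (1, 14), (1, 19), (1, 15), (1, 19), (1, 15), (1, 19), (1, 15), (1, 19), (1, 15), (1, 25), (1, 23), (-1, 23), (-1, 25), (-1, 18), (-1, 18), (-1, 18), (-1, 18), (-1, 14), (-1, 14), (-1, 14), (-1, 18), (-1, 18), (-1, 18), (-1, 18), (-1, 14), (-1, 14), (-1, 14), (-1, 18), (-1, 18), (-1, 18), (-1, 18), (-1, 14), (-1, 14), (-1, 14), (-1, 19), (-1, 19), (-1, 19), (-1, 19), (-1, 15), (-1, 15), (-1, 15), (-1, 19), (-1, 19), (-1, 19), (-1, 19), (-1, 15), (-1, 15), (-1, 15), (-1, 5), (1, 20), (1, 20), (1, 20), (1, 20), (1, 20), (1, 20), (1, 5)]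

/-- An equation. -/
def eq5_13 : Form := [(1, 19), (1, 15), (1, 20), (1, 20), (1, 20), (1, 20), (1, 4), (-1, 4), (1, 25), (1, 24), (-1, 24), (-1, 25), (-1, 19), (-1, 19), (-1, 19), (-1, 19), (-1, 15), (-1, 15), (-1, 15), (-1, 19), (-1, 19), (-1, 19), (-1, 19), (-1, 15), (-1, 15), (-1, 15), (-1, 19), (-1, 19), (-1, 19), (-1, 19), (-1, 15), (-1, 15), (-1, 15), (-1, 20), (-1, 20), (-1, 20), (-1, 20), (-1, 20), (-1, 20), (-1, 20), (-1, 20), (-1, 4), (-1, 5), (1, 20), (1, 20), (1, 20), (1, 20), (1, 20), (1, 20), (1, 20), (1, 20), (1, 20), (1, 4), (1, 5)]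

/-- An equation. -/
def eq5_14 : Form := [(1, 16), (1, 16), (1, 16), (1, 16), (1, 16), (1, 16), (1, 26), (1, 21), (-1, 21), (-1, 26), (-1, 16), (-1, 16)]

/-- An equation. -/
def eq5_15 : Form := [(1, 17), (1, 17), (1, 17), (1, 26), (1, 22), (-1, 22), (-1, 26), (-1, 17), (-1, 17)]

/-- An equation. -/
def eq5_16 : Form := [(1, 18), (1, 18), (1, 18), (1, 19), (1, 19), (1, 19), (1, 19), (1, 19), (1, 19), (1, 19), (1, 19), (1, 19), (1, 19), (1, 19), (1, 19), (1, 26), (1, 23), (-1, 23), (-1, 26), (-1, 18), (-1, 18), (-1, 18), (-1, 18), (-1, 18), (-1, 18), (-1, 19), (-1, 19), (-1, 19), (-1, 19)]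

/-- An equation. -/
def eq5_17 : Form := [(1, 19), (1, 19), (1, 19), (1, 20), (1, 20), (1, 20), (1, 20), (1, 20), (1, 20), (1, 20), (1, 20), (1, 20), (1, 20), (1, 20), (1, 20), (1, 26), (1, 24), (-1, 24), (-1, 26), (-1, 19), (-1, 19), (-1, 19), (-1, 19), (-1, 19), (-1, 19), (-1, 20), (-1, 20), (-1, 20), (-1, 20), (-1, 5), (1, 5)]

/-- An equation. -/
def eq5_18 : Form := [(1, 20), (1, 20), (1, 20), (1, 26), (1, 25), (-1, 25), (-1, 26), (-1, 20), (-1, 20), (-1, 20), (-1, 20), (-1, 20), (-1, 20), (-1, 5), (1, 5)]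

/-- The equations. -/
def eqs5 : List Form := [eq5_0, eq5_1, eq5_2, eq5_3, eq5_4, eq5_5, eq5_6, eq5_7, eq5_8, eq5_9, eq5_10, eq5_11, eq5_12, eq5_13, eq5_14, eq5_15, eq5_16, eq5_17, eq5_18]

/-- A combination. -/
def comb5_2 : List (ℤ × ℕ) := [(13824, 0), (13824, 1), (13824, 2), (1012608, 3), (34560, 4), (34560, 5), (207360, 7), (-25920, 9), (1244160, 10), (6480, 12), (-66420, 13), (449280, 14), (56880, 16), (55380, 17), (-704620, 18)]

/-- A combination. -/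
def comb5_3 : List (ℤ × ℕ) := [(-3456, 1), (-3456, 2), (-7776, 3), (-17280, 6), (-17280, 8), (6480, 9), (-17280, 11), (-1620, 12), (14445, 13), (-138240, 15), (-5580, 16), (-8805, 17), (-18485, 18)]

/-- A combination. -/
def comb5_4 : List (ℤ × ℕ) := [(-3456, 2), (-10368, 3), (-17280, 8), (-17280, 11), (6480, 13), (-103680, 15), (-23760, 17), (-81360, 18)]

/-- A combination. -/
def comb5_5 : List (ℤ × ℕ) := [(-27648, 3), (-34560, 10), (-8640, 14), (34560, 18)]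

/-- A combination. -/
def comb5_6 : List (ℤ × ℕ) := []

/-- A combination. -/
def comb5_7 : List (ℤ × ℕ) := [(-200448, 3), (-6912, 5), (-41472, 7), (-248832, 10), (-89856, 14), (16128, 17), (112128, 18)]

/-- A combination. -/
def comb5_8 : List (ℤ × ℕ) := []

/-- A combination. -/
def comb5_9 : List (ℤ × ℕ) := [(-27648, 3), (-6912, 7), (-34560, 10), (-13824, 14), (6912, 17), (23040, 18)]

/-- A combination. -/
def comb5_10 : List (ℤ × ℕ) := []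

/-- A combination. -/
def comb5_11 : List (ℤ × ℕ) := [(5184, 3), (-864, 9), (6912, 10), (216, 12), (-1350, 13), (1728, 14), (1512, 16), (9558, 17), (19638, 18)]

/-- A combination. -/
def comb5_12 : List (ℤ × ℕ) := []

/-- A combination. -/
def comb5_13 : List (ℤ × ℕ) := [(-3456, 11), (-10368, 15)]

/-- A combination. -/
def comb5_14 : List (ℤ × ℕ) := [(-864, 12), (216, 13), (3168, 16), (8808, 17), (22120, 18)]

/-- A combination. -/
def comb5_15 : List (ℤ × ℕ) := [(-864, 13), (3168, 17), (7008, 18)]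

/-- A combination. -/
def comb5_16 : List (ℤ × ℕ) := [(1728, 14)]

/-- A combination. -/
def comb5_17 : List (ℤ × ℕ) := [(6912, 15)]

/-- A combination. -/
def comb5_18 : List (ℤ × ℕ) := [(-2304, 16), (-6144, 17), (-16384, 18)]

/-- A combination. -/
def comb5_19 : List (ℤ × ℕ) := [(-2304, 17), (-6144, 18)]

/-- A combination. -/
def comb5_20 : List (ℤ × ℕ) := [(-2304, 18)]

/-- The inner rules with combinations. -/
def targets5 : List (ℕ × ℤ × List (ℤ × ℕ)) := [(2, 0, comb5_2), (3, 0, comb5_3), (4, 0, comb5_4), (5, 0, comb5_5), (6, 0, comb5_6), (7, 0, comb5_7), (8, 0, comb5_8), (9, 0, comb5_9), (10, 0, comb5_10), (11, 0, comb5_11), (12, 0, comb5_12), (13, 0, comb5_13), (14, 0, comb5_14), (15, 0, comb5_15), (16, 0, comb5_16), (17, 0, comb5_17), (18, 0, comb5_18), (19, 0, comb5_19), (20, 0, comb5_20)]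

/-- The certificate. -/
def cert5 : Cert where
  r := 6
  a := 2
  p := 5
  fuel := 121
  width := 6
  rules := rules5
  ix := [[0, 21, 21, 21, 21, 21], [6, 1, 21, 21, 21, 21], [7, 8, 2, 21, 21, 21], [9, 10, 11, 3, 21, 21], [12, 13, 14, 15, 4, 21], [16, 17, 18, 19, 20, 5]]
  ovl := ovl5
  fus := fus5
  eqs := eqs5
  lam := [[], [], [(-1, 6)], [(-1, 8)], [(-1, 10)], [(-1, 12)]]
  gen := []
  b := 1
  m := 6912
  genC := []
  targets := targets5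

end CfsgLib.Schur.Sporadic.Ly
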