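import Cfsg.Agent.Lib.Schur.Ly.Nodes10
import Cfsg.Agent.Lib.Schur.Ly.Cert3

/-!
The hypotheses of the certificate at 3.
-/

set_option autoImplicit false
set_option maxRecDepth 100000

namespace CfsgLib.Schur.Sporadic.Ly

open CfsgLib.Sporadic.WideMatrix CfsgLib.Sporadic.CosetCert.LyG2Five CfsgLib.Sporadic.CosetCert.LyIndex
open CfsgLib.Schur.Tails

/-- Listed matrices. -/
noncomputable def kk3 : List (List ℕ) := [mat63, mat67, mat69, mat76, mat77, mat85, mat86]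

theorem kk3_in : ∀ G ∈ kk3, InRho G :=
  List.forall_mem_cons.2 ⟨mat63_in, List.forall_mem_cons.2 ⟨mat67_in, List.forall_mem_cons.2 ⟨mat69_in, List.forall_mem_cons.2 ⟨mat76_in, List.forall_mem_cons.2 ⟨mat77_in, List.forall_mem_cons.2 ⟨mat85_in, List.forall_mem_cons.2 ⟨mat86_in, List.forall_mem_nil _⟩⟩⟩⟩⟩⟩⟩

/-- Listed matrices. -/
noncomputable def gk3 : List (List ℕ) := [mat16, mat88, mat90]

theorem gk3_in : ∀ G ∈ gk3, InRho G :=
  List.forall_mem_cons.2 ⟨mat16_in, List.forall_mem_cons.2 ⟨mat88_in, List.forall_mem_cons.2 ⟨mat90_in, List.forall_mem_nil _⟩⟩⟩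

theorem eqs3_ok : cert3.eqsOK = true := by decide +kernel

theorem comb3_ok : cert3.combOK = true := by decide +kernel

theorem shape3_ok : cert3.shapeOK = true := by decide +kernel

theorem rel3_0 : relOn kk3 cert3 0 8 = true := by decide +kernel

theorem rel3_1 : relOn kk3 cert3 8 14 = true := by decide +kernel

theorem rel3_2 : relOn kk3 cert3 14 20 = true := by decide +kernel

theorem rel3_3 : relOn kk3 cert3 20 26 = true := by decide +kernel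

theorem rel3_4 : relOn kk3 cert3 26 28 = true := by decide +kernel

theorem fus3_0_0 : fusOn kk3 gk3 cert3 0 0 5 = true := by decide +kernel

theorem fus3_0_1 : fusOn kk3 gk3 cert3 0 5 7 = true := by decide +kernel

theorem fus3_1_0 : fusOn kk3 gk3 cert3 1 0 3 = true := by decide +kernel

theorem fus3_1_1 : fusOn kk3 gk3 cert3 1 3 5 = true := by decide +kernel

theorem fus3_2_0 : fusOn kk3 gk3 cert3 2 0 4 = true := by decide +kernel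

theorem fus3_2_1 : fusOn kk3 gk3 cert3 2 4 7 = true := by decide +kernel

/-- A row. -/
def row3_0_1 : ℕ := 0x1000000020000000400000003000000030000000000000002000000000000000300000002000000030000000300000002000000030000000000000000000000040000000100000002000000010000000100000001000000040000000200000001000000010000000100000002000000020000000200000002000000040000000300000003000000020000000000000000000000020000000400000003000000020000000200000000000000020000000300000002000000030000000200000003000000010000000300000003000000030000000300000004000000020000000000000003000000020000000000000003000000030000000200000001000000010000000100000001000000000000000000000004000000000000000400000001000000010000000000000002000000040000000000000003000000030000000000000001000000010000000400000004000000040000000400000004000000000000000300000004000000010000000000000000000000020000000100000003000000010000000400000001000000030000000100000001000000000000000000000003000000040000000200000004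

/-- Words. -/
def words3_0_1 : List (List ℕ) := [
  [],
  [0],
  [0, 0]]

theorem step3_0_1 : stepOK kk3 7 0 1 row3_0_1 words3_0_1 = true ∧ words3_0_1.length = 3 := by
  decide +kernel

/-- A row. -/
def row3_1_6 : ℕ := 0x1000000040000000400000002000000020000000200000001000000010000000400000002000000020000000200000003000000030000000000000000000000040000000100000000000000020000000200000003000000000000000400000003000000020000000000000003000000040000000200000004000000040000000000000000000000030000000000000001000000030000000100000004000000040000000100000003000000010000000300000003000000020000000100000000000000020000000000000003000000010000000100000003000000040000000200000004000000020000000100000003000000040000000200000000000000000000000400000001000000010000000400000001000000040000000200000000000000020000000000000004000000040000000300000002000000030000000200000004000000040000000400000001000000040000000300000002000000000000000300000000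

/-- Words. -/
def words3_1_6 : List (List ℕ) := [
  [],
  [1, 1, 2, 2, 4, 4, 5],
  [3, 5],
  [1, 2, 3, 3, 4, 4, 5, 5],
  [1, 2, 3, 5, 5],
  [1, 1, 2, 2, 3, 3],
  [1, 2, 3, 4, 4, 5, 5],
  [4, 5],
  [1, 1, 5],
  [2, 3, 4, 4, 5, 5],
  [1, 3],
  [1, 3, 3, 4, 4, 5, 5],
  [2, 2],
  [1, 2, 2, 3],
  [2, 3, 3],
  [2, 2, 4, 4],
  [1, 3, 4, 4],
  [1, 2, 3, 3, 5, 5],
  [1, 2, 4],
  [1, 1, 2, 2, 3, 4, 4, 5, 5],
  [2, 2, 3, 3, 5],
  [1, 3, 3, 4, 4, 5],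
  [1, 2, 2, 3, 4, 4, 5],
  [3, 4, 5, 5],
  [1, 2, 2, 4, 5, 5],
  [1, 3, 3, 4, 5, 5],
  [1, 1, 3, 4, 5, 5],
  [3, 3],
  [2, 3, 3, 4, 4, 5, 5],
  [1, 2, 3],
  [1, 1, 2, 2, 3, 3, 4, 4, 5],
  [1, 1, 2, 2, 3, 4, 4],
  [1, 3, 3, 4, 5],
  [1, 1, 2, 2, 3, 5, 5],
  [2, 2, 3, 5],
  [2, 2, 3, 3, 4, 5, 5],
  [1, 1, 2, 4, 5, 5],
  [1, 1, 3, 4],
  [1, 1, 2, 3, 4, 5],
  [1, 1, 2, 2, 3, 3, 4, 4, 5, 5],
  [2, 2, 4, 5, 5],
  [1, 1, 2, 2, 4, 5],
  [1, 2, 3, 4, 5],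
  [1, 2, 3, 3, 4, 5],
  [2, 2, 3, 4, 4, 5, 5],
  [1, 1, 2, 3, 4, 4, 5],
  [2, 3, 5, 5],
  [1, 2, 3, 4, 4],
  [3, 3, 4, 4, 5, 5],
  [2, 3, 3, 4, 4, 5],
  [1, 1, 3, 5],
  [3, 4, 4, 5, 5],
  [1, 2, 3, 4, 4, 5],
  [1, 2, 2, 3, 4, 4, 5, 5],
  [1, 1, 4, 5, 5],
  [1, 1, 2, 3, 3, 4, 4],
  [1, 1, 2, 3, 3, 5],
  [1, 4, 5, 5],
  [2, 2, 3, 3],
  [3, 5, 5],
  [1, 3, 3, 5],
  [2, 2, 5, 5],
  [1, 2, 2, 3, 4, 5],
  [4, 4, 5, 5],
  [1, 1, 2, 3, 3, 4],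
  [2, 3, 3, 4, 4],
  [1, 1, 2, 2, 3, 3, 5],
  [2, 2, 5],
  [2, 2, 3, 4, 5],
  [1, 2, 4, 4],
  [2, 5],
  [1, 2, 2, 3, 4, 4],
  [1, 1, 3, 3, 4, 5],
  [1, 1, 2, 2, 5],
  [1, 1, 4, 4, 5],
  [3, 3, 4, 5, 5],
  [2, 2, 3, 3, 5, 5],
  [1, 1, 2, 2, 3, 3, 5, 5],
  [1, 1, 2, 4, 4, 5, 5],
  [2, 4, 4],
  [1, 5],
  [3],
  [1, 2, 2, 3, 3, 5],
  [2, 2, 3, 3, 4, 4],
  [1, 2, 2, 3, 3, 4, 4],
  [1, 4, 4, 5],
  [2, 4, 5, 5],
  [4, 4, 5],
  [3, 3, 4],
  [1, 2, 2, 5],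
  [1, 1, 3],
  [3, 3, 4, 4],
  [1, 3, 4],
  [1, 1, 2],
  [1, 2, 2, 3, 3, 4, 5],
  [1, 1, 4, 4],
  [1, 1, 3, 3, 5],
  [1, 2, 2, 3, 3, 5, 5],
  [1, 3, 3, 4],
  [1, 1, 3, 3, 4, 4, 5, 5],
  [2, 2, 3, 3, 4, 4, 5, 5],
  [1, 1, 2, 5],
  [2, 4, 5],
  [1, 1, 3, 3, 4],
  [1, 1, 3, 3, 5, 5],
  [1, 1, 2, 2, 4, 5, 5],
  [1, 1, 2, 4, 4, 5],
  [3, 4, 4],
  [1, 2, 2, 3, 3, 4, 4, 5],
  [1, 1, 2, 3, 3, 5, 5],
  [1, 2, 2, 4, 4, 5],
  [1, 2, 2, 3, 4],
  [1, 2, 2, 5, 5],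
  [1, 2, 3, 3, 4],
  [1, 1, 2, 2, 3, 4, 4, 5],
  [1, 2, 3, 5],
  [1, 4, 4, 5, 5],
  [1, 2, 2, 3, 3, 4, 5, 5],
  [1, 3, 4, 5],
  [2, 3, 4, 5, 5],
  [1, 3, 3, 4, 4],
  [1, 4, 5],
  [1, 1, 2, 3, 5],
  [1, 1, 2, 2, 3, 4, 5, 5],
  [1, 1, 2, 2, 3, 4],
  [2, 2, 3, 4, 5, 5],
  [1, 1, 2, 3, 5, 5],
  [1, 1, 2, 2, 3, 3, 4, 4],
  [1, 1, 2, 2, 5, 5],
  [2, 3, 4],
  [1, 2, 2, 4, 4, 5, 5],
  [1, 1, 3, 4, 5],
  [2, 3, 5],
  [2, 4, 4, 5, 5],
  [1, 1, 3, 3, 4, 4, 5],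
  [2, 2, 3, 4, 4],
  [3, 4, 5],
  [1, 3, 3],
  [1, 1, 4],
  [5],
  [1, 1, 4, 5],
  [1, 1, 2, 2, 3, 4, 5],
  [1, 3, 4, 4, 5],
  [2, 4],
  [1, 2, 2, 4],
  [1, 5, 5],
  [1, 2, 3, 3, 4, 4],
  [2, 3, 3, 5, 5],
  [1, 1, 2, 5, 5],
  [1, 2, 2, 4, 4],
  [2, 2, 4],
  [2, 2, 4, 4, 5],
  [1, 1, 2, 3, 3, 4, 4, 5, 5],
  [2, 2, 3, 4, 4, 5],
  [3, 3, 5, 5],
  [2, 2, 3, 5, 5],
  [1, 1, 3, 3, 4, 4],
  [2],
  [1, 1, 2, 2, 3, 5],
  [2, 5, 5],
  [1, 1, 2, 3, 3, 4, 5],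
  [1, 2, 2, 3, 5, 5],
  [1, 1, 2, 2, 4, 4],
  [1],
  [1, 1, 2, 3, 3, 4, 5, 5],
  [4, 5, 5],
  [1, 2, 4, 5],
  [1, 2, 3, 3, 5],
  [2, 2, 3, 3, 4],
  [2, 3, 4, 4, 5],
  [1, 1, 2, 3, 4, 4],
  [1, 1, 2, 3, 4],
  [1, 3, 5],
  [1, 2, 3, 4],
  [1, 2, 2, 3, 3, 4],
  [1, 2, 3, 4, 5, 5],
  [1, 1, 2, 3, 4, 4, 5, 5],
  [1, 3, 4, 5, 5],
  [2, 3, 4, 5],
  [1, 1, 3, 3],
  [1, 1, 2, 4],
  [1, 2, 4, 4, 5],
  [1, 1, 2, 3],
  [1, 3, 3, 5, 5],
  [1, 2, 4, 4, 5, 5],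
  [1, 1, 5, 5],
  [1, 1, 2, 3, 3, 4, 4, 5],
  [1, 2, 2],
  [3, 3, 4, 4, 5],
  [1, 1, 3, 4, 4],
  [1, 1, 2, 4, 4],
  [1, 1, 3, 5, 5],
  [1, 2, 2, 3, 3, 4, 4, 5, 5],
  [2, 3, 3, 5],
  [2, 2, 3, 3, 4, 5],
  [1, 3, 4, 4, 5, 5],
  [2, 2, 3, 4],
  [1, 2, 3, 3, 4, 4, 5],
  [1, 2, 2, 3, 3],
  [1, 4],
  [1, 2, 5],
  [2, 3, 3, 4, 5, 5],
  [1, 1, 2, 2, 3, 3, 4, 5],
  [5, 5],
  [1, 1],
  [2, 2, 3, 3, 4, 4, 5],
  [1, 2, 5, 5],
  [1, 2, 4, 5, 5],
  [2, 3, 3, 4],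
  [2, 3],
  [3, 3, 5],
  [2, 3, 4, 4],
  [1, 1, 2, 2, 3, 3, 4],
  [1, 1, 2, 2, 3],
  [1, 1, 2, 3, 3],
  [2, 2, 3],
  [2, 2, 4, 5],
  [1, 2, 2, 3, 4, 5, 5],
  [1, 1, 3, 3, 4, 5, 5],
  [1, 3, 5, 5],
  [1, 2, 3, 3],
  [1, 2, 2, 3, 5],
  [2, 3, 3, 4, 5],
  [1, 1, 3, 4, 4, 5],
  [1, 1, 4, 4, 5, 5],
  [1, 1, 3, 4, 4, 5, 5],
  [3, 4, 4, 5],
  [1, 1, 2, 4, 5],
  [1, 1, 2, 2, 3, 3, 4, 5, 5],
  [3, 3, 4, 5],
  [2, 4, 4, 5],
  [1, 2, 2, 4, 5],
  [4, 4],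
  [2, 2, 4, 4, 5, 5],
  [1, 1, 2, 2, 4, 4, 5, 5],
  [4],
  [1, 1, 2, 2],
  [3, 4],
  [1, 4, 4],
  [1, 1, 2, 3, 4, 5, 5],
  [1, 2],
  [1, 2, 3, 3, 4, 5, 5],
  [1, 1, 2, 2, 4]]

theorem step3_1_6 : stepOK kk3 7 1 6 row3_1_6 words3_1_6 = true ∧ words3_1_6.length = 243 := by
  decide +kernel

/-- A row. -/
def row3_6_7 : ℕ := 0x1

/-- Words. -/
def words3_6_7 : List (List ℕ) := [
  [],
  [6],
  [6, 6]]

theorem step3_6_7 : stepOK kk3 7 6 7 row3_6_7 words3_6_7 = true ∧ words3_6_7.length = 3 := by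
  decide +kernel

/-- A row. -/
def row3_3_6 : ℕ := 0x1000000040000000400000002000000020000000200000001000000010000000400000002000000020000000200000003000000030000000000000000000000040000000100000000000000020000000200000003000000000000000400000003000000020000000000000003000000040000000200000004000000040000000000000000000000030000000000000001000000030000000100000004000000040000000100000003000000010000000300000003000000020000000100000000000000020000000000000003000000010000000100000003000000040000000200000004000000020000000100000003000000040000000200000000000000000000000400000001000000010000000400000001000000040000000200000000000000020000000000000004000000040000000300000002000000030000000200000004000000040000000400000001000000040000000300000002000000000000000300000000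

/-- Words. -/
def words3_3_6 : List (List ℕ) := [
  [],
  [3, 5],
  [4, 5],
  [3, 4, 5, 5],
  [3, 3],
  [3, 3, 4, 4, 5, 5],
  [3, 4, 4, 5, 5],
  [3, 5, 5],
  [4, 4, 5, 5],
  [3, 3, 4, 5, 5],
  [3],
  [4, 4, 5],
  [3, 3, 4],
  [3, 3, 4, 4],
  [3, 4, 4],
  [3, 4, 5],
  [5],
  [3, 3, 5, 5],
  [4, 5, 5],
  [3, 3, 4, 4, 5],
  [5, 5],
  [3, 3, 5],
  [3, 4, 4, 5],
  [3, 3, 4, 5],
  [4, 4],
  [4],
  [3, 4]]

theorem step3_3_6 : stepOK kk3 7 3 6 row3_3_6 words3_3_6 = true ∧ words3_3_6.length = 27 := by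
  decide +kernel

end CfsgLib.Schur.Sporadic.Ly
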