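import Cfsg.Agent.Lib.Schur.Ly.Nodes10

/-!
Elements of orders 7, 11, 31, 37 and 67.
-/

set_option autoImplicit false
set_option maxRecDepth 100000

namespace CfsgLib.Schur.Sporadic.Ly

open CfsgLib.Sporadic.CosetCert.LyG2Five CfsgLib.Sporadic.CosetCert.LyIndex

theorem ord7_ok : primeOrd mat97 7 = true := by decide +kernel

theorem ord7_in : InRho mat97 := mat97_in

theorem ord11_ok : primeOrd mat98 11 = true := by decide +kernel

theorem ord11_in : InRho mat98 := mat98_in

theorem ord31_ok : primeOrd mat56 31 = true := by decide +kernel

theorem ord31_in : InRho mat56 := mat56_in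

theorem ord37_ok : primeOrd mat99 37 = true := by decide +kernel

theorem ord37_in : InRho mat99 := mat99_in

theorem ord67_ok : primeOrd mat100 67 = true := by decide +kernel

theorem ord67_in : InRho mat100 := mat100_in

end CfsgLib.Schur.Sporadic.Ly
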