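import Cfsg.Agent.Lib.Schur.Ly.Check2
import Cfsg.Agent.Lib.Schur.Ly.Check3
import Cfsg.Agent.Lib.Schur.Ly.Check5
import Cfsg.Agent.Lib.Schur.Ly.Ords
import Cfsg.Agent.Lib.Schur.Basic
import Cfsg.Agent.Lib.Sporadic.LyIndex.Simple

/-!
# The Schur multiplier of the presented Lyons group is trivial
-/

set_option autoImplicit false
set_option maxRecDepth 100000

namespace CfsgLib.Schur.Sporadic.Ly

open CfsgLib.Sporadic.WideMatrix CfsgLib.Sporadic.CosetCert.LyG2Five CfsgLib.Sporadic.CosetCert.LyIndex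
open CfsgLib.Schur.Tails

attribute [local irreducible] CfsgLib.Sporadic.WideMatrix.mul okRows prodW oneW lane expMat
  relOn fusOn stepOK primeOrd cert2 cert3 cert5 kk2 kk3 kk5 gk2 gk3 gk5

instance finite_LyP : Finite LyP := Nat.finite_of_card_ne_zero (by rw [card_Ly_eq]; norm_num)

theorem rho_a_ne_one : rho (PresentedGroup.of Cfsg.Spor.Ly.Gen.a) ≠ 1 := by
  intro e
  have e2 := congrArg Units.val (rho_gL 0)
  rw [g13_val] at e2
  have e3 : gL 0 = PresentedGroup.of Cfsg.Spor.Ly.Gen.a := rfl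
  rw [e3, e, Units.val_one] at e2
  have h4 := congrFun (congrFun e2 0) 1
  unfold md111 dec at h4
  rw [show (((1 : Fin 111) : ℕ)) = 1 from rfl, show (((0 : Fin 111) : ℕ)) = 0 from rfl, a_entry,
    Matrix.one_apply_ne (by decide)] at h4
  exact absurd h4 (by decide)

theorem rho_injective : Function.Injective rho := by
  rw [← MonoidHom.ker_eq_bot_iff]
  have := isSimple_Ly
  refine (rho.normal_ker.eq_bot_or_eq_top).resolve_right fun h => ?_
  have h1 : rho (PresentedGroup.of Cfsg.Spor.Ly.Gen.a) = 1 := MonoidHom.mem_ker.1 (h ▸ Subgroup.mem_top _)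
  exact absurd h1 rho_a_ne_one

theorem exists_look {kk : List (List ℕ)} (h : ∀ G ∈ kk, InRho G) (i : ℕ) : ∃ q, RepW rho (look kk i) q := by
  refine exists_repW ?_
  rw [look]
  by_cases hi : i < kk.length
  · rw [List.getD_eq_getElem _ _ hi]; exact h _ (List.getElem_mem hi)
  · rw [List.getD_eq_default _ _ (by omega)]; exact inRho_lett 13

theorem bound2 (Γ : Type) [Group Γ] [Finite Γ] (σ : Γ →* LyP) (hσ : Cfsg.IsStemExtension σ) :
    (Nat.card σ.ker).factorization 2 = 0 := by
  have : Fact (Nat.Prime 2) := ⟨by norm_num⟩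
  choose y hy using exists_look kk2_in
  choose g hg using exists_look gk2_in
  have hr : cert2.r = 8 ∧ cert2.a = 3 ∧ cert2.p = 2 ∧ cert2.b = 1 ∧ cert2.m = 1 := by
    unfold cert2; exact ⟨rfl, rfl, rfl, rfl, rfl⟩
  have hlen : cert2.rules.length = 36 ∧ cert2.fus.length = 6 ∧ (List.range 6).map (fun j => (cert2.fus.getD j ⟨[], [], []⟩).us.length) = [7, 6, 6, 6, 6, 6] := by
    unfold cert2; decide
  have hrel : ∀ R ∈ cert2.rules, valW y R.1 = valW y R.2 := by
    intro R hR
    obtain ⟨k, hk, rfl⟩ := List.mem_iff_getElem.1 hR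
    rw [← List.getD_eq_getElem _ ([], []) hk]
    rw [hlen.1] at hk
    rcases Nat.lt_or_ge k 9 with h0 | h0
    · exact rel_of_on rho_injective hy rel2_0 k (by omega) h0
    rcases Nat.lt_or_ge k 15 with h1 | h1
    · exact rel_of_on rho_injective hy rel2_1 k (by omega) h1
    rcases Nat.lt_or_ge k 20 with h2 | h2
    · exact rel_of_on rho_injective hy rel2_2 k (by omega) h2
    rcases Nat.lt_or_ge k 26 with h3 | h3
    · exact rel_of_on rho_injective hy rel2_3 k (by omega) h3
    rcases Nat.lt_or_ge k 32 with h4 | h4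
    · exact rel_of_on rho_injective hy rel2_4 k (by omega) h4
    exact rel_of_on rho_injective hy rel2_5 k (by omega) hk
  have hfus : ∀ j < cert2.fus.length, ∀ s < (cert2.fus.getD j ⟨[], [], []⟩).us.length,
      g j * valW y ((cert2.fus.getD j ⟨[], [], []⟩).us.getD s []) =
        valW y ((cert2.fus.getD j ⟨[], [], []⟩).vs.getD s []) * g j := by
    intro j hj s hs
    rw [hlen.2.1] at hj
    have hus := hlen.2.2
    interval_cases j
    · have e : (cert2.fus.getD 0 ⟨[], [], []⟩).us.length = 7 := by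
        simpa using congrArg (fun l => List.getD l 0 0) hus
      rw [e] at hs
      rcases Nat.lt_or_ge s 6 with h0 | h0
      · exact fus_of_on rho_injective hy hg fus2_0_0 s (by omega) h0
      exact fus_of_on rho_injective hy hg fus2_0_1 s (by omega) hs
    · have e : (cert2.fus.getD 1 ⟨[], [], []⟩).us.length = 6 := by
        simpa using congrArg (fun l => List.getD l 1 0) hus
      rw [e] at hs
      exact fus_of_on rho_injective hy hg fus2_1_0 s (by omega) hs
    · have e : (cert2.fus.getD 2 ⟨[], [], []⟩).us.length = 6 := by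
        simpa using congrArg (fun l => List.getD l 2 0) hus
      rw [e] at hs
      rcases Nat.lt_or_ge s 5 with h0 | h0
      · exact fus_of_on rho_injective hy hg fus2_2_0 s (by omega) h0
      exact fus_of_on rho_injective hy hg fus2_2_1 s (by omega) hs
    · have e : (cert2.fus.getD 3 ⟨[], [], []⟩).us.length = 6 := by
        simpa using congrArg (fun l => List.getD l 3 0) hus
      rw [e] at hs
      rcases Nat.lt_or_ge s 5 with h0 | h0
      · exact fus_of_on rho_injective hy hg fus2_3_0 s (by omega) h0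
      exact fus_of_on rho_injective hy hg fus2_3_1 s (by omega) hs
    · have e : (cert2.fus.getD 4 ⟨[], [], []⟩).us.length = 6 := by
        simpa using congrArg (fun l => List.getD l 4 0) hus
      rw [e] at hs
      exact fus_of_on rho_injective hy hg fus2_4_0 s (by omega) hs
    · have e : (cert2.fus.getD 5 ⟨[], [], []⟩).us.length = 6 := by
        simpa using congrArg (fun l => List.getD l 5 0) hus
      rw [e] at hs
      rcases Nat.lt_or_ge s 5 with h0 | h0
      · exact fus_of_on rho_injective hy hg fus2_5_0 s (by omega) h0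
      exact fus_of_on rho_injective hy hg fus2_5_1 s (by omega) hs
  have hU : 256 ≤ Nat.card (tailGen y 8 0) := by
    have hend : 1 ≤ Nat.card (tailGen y 8 8) := Nat.card_pos
    have c7 : 2 ≤ Nat.card (tailGen y 8 7) := le_trans (Nat.mul_le_mul (le_of_eq step2_7_8.2.symm) hend) (step_card hy step2_7_8.1)
    have c6 : 4 ≤ Nat.card (tailGen y 8 6) := le_trans (Nat.mul_le_mul (le_of_eq step2_6_7.2.symm) c7) (step_card hy step2_6_7.1)
    have c5 : 8 ≤ Nat.card (tailGen y 8 5) := le_trans (Nat.mul_le_mul (le_of_eq step2_5_6.2.symm) c6) (step_card hy step2_5_6.1)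
    have c4 : 16 ≤ Nat.card (tailGen y 8 4) := le_trans (Nat.mul_le_mul (le_of_eq step2_4_5.2.symm) c5) (step_card hy step2_4_5.1)
    have c3 : 32 ≤ Nat.card (tailGen y 8 3) := le_trans (Nat.mul_le_mul (le_of_eq step2_3_4.2.symm) c4) (step_card hy step2_3_4.1)
    have c2 : 64 ≤ Nat.card (tailGen y 8 2) := le_trans (Nat.mul_le_mul (le_of_eq step2_2_3.2.symm) c3) (step_card hy step2_2_3.1)
    have c0 : 256 ≤ Nat.card (tailGen y 8 0) := le_trans (Nat.mul_le_mul (le_of_eq step2_0_2.2.symm) c2) (step_card hy step2_0_2.1)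
    exact c0
  have hV : 32 ≤ Nat.card (tailGen y 8 3) := by
    have hend : 1 ≤ Nat.card (tailGen y 8 8) := Nat.card_pos
    have c7 : 2 ≤ Nat.card (tailGen y 8 7) := le_trans (Nat.mul_le_mul (le_of_eq step2_7_8.2.symm) hend) (step_card hy step2_7_8.1)
    have c6 : 4 ≤ Nat.card (tailGen y 8 6) := le_trans (Nat.mul_le_mul (le_of_eq step2_6_7.2.symm) c7) (step_card hy step2_6_7.1)
    have c5 : 8 ≤ Nat.card (tailGen y 8 5) := le_trans (Nat.mul_le_mul (le_of_eq step2_5_6.2.symm) c6) (step_card hy step2_5_6.1)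
    have c4 : 16 ≤ Nat.card (tailGen y 8 4) := le_trans (Nat.mul_le_mul (le_of_eq step2_4_5.2.symm) c5) (step_card hy step2_4_5.1)
    have c3 : 32 ≤ Nat.card (tailGen y 8 3) := le_trans (Nat.mul_le_mul (le_of_eq step2_3_4.2.symm) c4) (step_card hy step2_3_4.1)
    exact c3
  have h := factorization_card_ker_le cert2 eqs2_ok comb2_ok shape2_ok (p := 2) hr.2.2.1
    (by rw [hr.2.2.2.2]; norm_num) y hrel g hfus (by rw [hr.1]; exact hU) (by rw [hr.1, hr.2.1]; exact hV)
    (by rw [hr.1, card_Ly_eq]; norm_num) Γ σ hσ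
  simpa [hr.2.2.2.1] using h

theorem bound3 (Γ : Type) [Group Γ] [Finite Γ] (σ : Γ →* LyP) (hσ : Cfsg.IsStemExtension σ) :
    (Nat.card σ.ker).factorization 3 = 0 := by
  have : Fact (Nat.Prime 3) := ⟨by norm_num⟩
  choose y hy using exists_look kk3_in
  choose g hg using exists_look gk3_in
  have hr : cert3.r = 7 ∧ cert3.a = 3 ∧ cert3.p = 3 ∧ cert3.b = 1 ∧ cert3.m = 1600 := by
    unfold cert3; exact ⟨rfl, rfl, rfl, rfl, rfl⟩
  have hlen : cert3.rules.length = 28 ∧ cert3.fus.length = 3 ∧ (List.range 3).map (fun j => (cert3.fus.getD j ⟨[], [], []⟩).us.length) = [7, 5, 7] := by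
    unfold cert3; decide
  have hrel : ∀ R ∈ cert3.rules, valW y R.1 = valW y R.2 := by
    intro R hR
    obtain ⟨k, hk, rfl⟩ := List.mem_iff_getElem.1 hR
    rw [← List.getD_eq_getElem _ ([], []) hk]
    rw [hlen.1] at hk
    rcases Nat.lt_or_ge k 8 with h0 | h0
    · exact rel_of_on rho_injective hy rel3_0 k (by omega) h0
    rcases Nat.lt_or_ge k 14 with h1 | h1
    · exact rel_of_on rho_injective hy rel3_1 k (by omega) h1
    rcases Nat.lt_or_ge k 20 with h2 | h2
    · exact rel_of_on rho_injective hy rel3_2 k (by omega) h2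
    rcases Nat.lt_or_ge k 26 with h3 | h3
    · exact rel_of_on rho_injective hy rel3_3 k (by omega) h3
    exact rel_of_on rho_injective hy rel3_4 k (by omega) hk
  have hfus : ∀ j < cert3.fus.length, ∀ s < (cert3.fus.getD j ⟨[], [], []⟩).us.length,
      g j * valW y ((cert3.fus.getD j ⟨[], [], []⟩).us.getD s []) =
        valW y ((cert3.fus.getD j ⟨[], [], []⟩).vs.getD s []) * g j := by
    intro j hj s hs
    rw [hlen.2.1] at hj
    have hus := hlen.2.2
    interval_cases j
    · have e : (cert3.fus.getD 0 ⟨[], [], []⟩).us.length = 7 := by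
        simpa using congrArg (fun l => List.getD l 0 0) hus
      rw [e] at hs
      rcases Nat.lt_or_ge s 5 with h0 | h0
      · exact fus_of_on rho_injective hy hg fus3_0_0 s (by omega) h0
      exact fus_of_on rho_injective hy hg fus3_0_1 s (by omega) hs
    · have e : (cert3.fus.getD 1 ⟨[], [], []⟩).us.length = 5 := by
        simpa using congrArg (fun l => List.getD l 1 0) hus
      rw [e] at hs
      rcases Nat.lt_or_ge s 3 with h0 | h0
      · exact fus_of_on rho_injective hy hg fus3_1_0 s (by omega) h0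
      exact fus_of_on rho_injective hy hg fus3_1_1 s (by omega) hs
    · have e : (cert3.fus.getD 2 ⟨[], [], []⟩).us.length = 7 := by
        simpa using congrArg (fun l => List.getD l 2 0) hus
      rw [e] at hs
      rcases Nat.lt_or_ge s 4 with h0 | h0
      · exact fus_of_on rho_injective hy hg fus3_2_0 s (by omega) h0
      exact fus_of_on rho_injective hy hg fus3_2_1 s (by omega) hs
  have hU : 2187 ≤ Nat.card (tailGen y 7 0) := by
    have hend : 1 ≤ Nat.card (tailGen y 7 7) := Nat.card_pos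
    have c6 : 3 ≤ Nat.card (tailGen y 7 6) := le_trans (Nat.mul_le_mul (le_of_eq step3_6_7.2.symm) hend) (step_card hy step3_6_7.1)
    have c1 : 729 ≤ Nat.card (tailGen y 7 1) := le_trans (Nat.mul_le_mul (le_of_eq step3_1_6.2.symm) c6) (step_card hy step3_1_6.1)
    have c0 : 2187 ≤ Nat.card (tailGen y 7 0) := le_trans (Nat.mul_le_mul (le_of_eq step3_0_1.2.symm) c1) (step_card hy step3_0_1.1)
    exact c0
  have hV : 81 ≤ Nat.card (tailGen y 7 3) := by
    have hend : 1 ≤ Nat.card (tailGen y 7 7) := Nat.card_pos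
    have c6 : 3 ≤ Nat.card (tailGen y 7 6) := le_trans (Nat.mul_le_mul (le_of_eq step3_6_7.2.symm) hend) (step_card hy step3_6_7.1)
    have c3 : 81 ≤ Nat.card (tailGen y 7 3) := le_trans (Nat.mul_le_mul (le_of_eq step3_3_6.2.symm) c6) (step_card hy step3_3_6.1)
    exact c3
  have h := factorization_card_ker_le cert3 eqs3_ok comb3_ok shape3_ok (p := 3) hr.2.2.1
    (by rw [hr.2.2.2.2]; norm_num) y hrel g hfus (by rw [hr.1]; exact hU) (by rw [hr.1, hr.2.1]; exact hV)
    (by rw [hr.1, card_Ly_eq]; norm_num) Γ σ hσ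
  simpa [hr.2.2.2.1] using h

theorem bound5 (Γ : Type) [Group Γ] [Finite Γ] (σ : Γ →* LyP) (hσ : Cfsg.IsStemExtension σ) :
    (Nat.card σ.ker).factorization 5 = 0 := by
  have : Fact (Nat.Prime 5) := ⟨by norm_num⟩
  choose y hy using exists_look kk5_in
  choose g hg using exists_look gk5_in
  have hr : cert5.r = 6 ∧ cert5.a = 2 ∧ cert5.p = 5 ∧ cert5.b = 1 ∧ cert5.m = 6912 := by
    unfold cert5; exact ⟨rfl, rfl, rfl, rfl, rfl⟩
  have hlen : cert5.rules.length = 21 ∧ cert5.fus.length = 1 ∧ (List.range 1).map (fun j => (cert5.fus.getD j ⟨[], [], []⟩).us.length) = [6] := by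
    unfold cert5; decide
  have hrel : ∀ R ∈ cert5.rules, valW y R.1 = valW y R.2 := by
    intro R hR
    obtain ⟨k, hk, rfl⟩ := List.mem_iff_getElem.1 hR
    rw [← List.getD_eq_getElem _ ([], []) hk]
    rw [hlen.1] at hk
    rcases Nat.lt_or_ge k 5 with h0 | h0
    · exact rel_of_on rho_injective hy rel5_0 k (by omega) h0
    rcases Nat.lt_or_ge k 11 with h1 | h1
    · exact rel_of_on rho_injective hy rel5_1 k (by omega) h1
    rcases Nat.lt_or_ge k 17 with h2 | h2
    · exact rel_of_on rho_injective hy rel5_2 k (by omega) h2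
    exact rel_of_on rho_injective hy rel5_3 k (by omega) hk
  have hfus : ∀ j < cert5.fus.length, ∀ s < (cert5.fus.getD j ⟨[], [], []⟩).us.length,
      g j * valW y ((cert5.fus.getD j ⟨[], [], []⟩).us.getD s []) =
        valW y ((cert5.fus.getD j ⟨[], [], []⟩).vs.getD s []) * g j := by
    intro j hj s hs
    rw [hlen.2.1] at hj
    have hus := hlen.2.2
    interval_cases j
    · have e : (cert5.fus.getD 0 ⟨[], [], []⟩).us.length = 6 := by
        simpa using congrArg (fun l => List.getD l 0 0) hus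
      rw [e] at hs
      rcases Nat.lt_or_ge s 4 with h0 | h0
      · exact fus_of_on rho_injective hy hg fus5_0_0 s (by omega) h0
      exact fus_of_on rho_injective hy hg fus5_0_1 s (by omega) hs
  have hU : 15625 ≤ Nat.card (tailGen y 6 0) := by
    have hend : 1 ≤ Nat.card (tailGen y 6 6) := Nat.card_pos
    have c5 : 5 ≤ Nat.card (tailGen y 6 5) := le_trans (Nat.mul_le_mul (le_of_eq step5_5_6.2.symm) hend) (step_card hy step5_5_6.1)
    have c4 : 25 ≤ Nat.card (tailGen y 6 4) := le_trans (Nat.mul_le_mul (le_of_eq step5_4_5.2.symm) c5) (step_card hy step5_4_5.1)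
    have c3 : 125 ≤ Nat.card (tailGen y 6 3) := le_trans (Nat.mul_le_mul (le_of_eq step5_3_4.2.symm) c4) (step_card hy step5_3_4.1)
    have c0 : 15625 ≤ Nat.card (tailGen y 6 0) := le_trans (Nat.mul_le_mul (le_of_eq step5_0_3.2.symm) c3) (step_card hy step5_0_3.1)
    exact c0
  have hV : 625 ≤ Nat.card (tailGen y 6 2) := by
    have hend : 1 ≤ Nat.card (tailGen y 6 6) := Nat.card_pos
    have c5 : 5 ≤ Nat.card (tailGen y 6 5) := le_trans (Nat.mul_le_mul (le_of_eq step5_5_6.2.symm) hend) (step_card hy step5_5_6.1)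
    have c4 : 25 ≤ Nat.card (tailGen y 6 4) := le_trans (Nat.mul_le_mul (le_of_eq step5_4_5.2.symm) c5) (step_card hy step5_4_5.1)
    have c3 : 125 ≤ Nat.card (tailGen y 6 3) := le_trans (Nat.mul_le_mul (le_of_eq step5_3_4.2.symm) c4) (step_card hy step5_3_4.1)
    have c2 : 625 ≤ Nat.card (tailGen y 6 2) := le_trans (Nat.mul_le_mul (le_of_eq step5_2_3.2.symm) c3) (step_card hy step5_2_3.1)
    exact c2
  have h := factorization_card_ker_le cert5 eqs5_ok comb5_ok shape5_ok (p := 5) hr.2.2.1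
    (by rw [hr.2.2.2.2]; norm_num) y hrel g hfus (by rw [hr.1]; exact hU) (by rw [hr.1, hr.2.1]; exact hV)
    (by rw [hr.1, card_Ly_eq]; norm_num) Γ σ hσ
  simpa [hr.2.2.2.1] using h

theorem bound_ord {G : List ℕ} {p : ℕ} [Fact p.Prime] (hG : InRho G) (h : primeOrd G p = true)
    (hp : ¬ p ^ 2 ∣ 51765179004000000) (Γ : Type) [Group Γ] [Finite Γ] (σ : Γ →* LyP) (hσ : Cfsg.IsStemExtension σ) :
    (Nat.card σ.ker).factorization p = 0 := by
  obtain ⟨q, hq⟩ := exists_repW hG
  exact factorization_card_ker_of_orderOf σ hσ q (k := 1)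
    (by rw [orderOf_of_primeOrd rho_injective hq h, pow_one]) (by rwa [card_Ly_eq])

theorem card_ker_le (Γ : Type) [Group Γ] [Finite Γ] (σ : Γ →* LyP) (hσ : Cfsg.IsStemExtension σ) :
    Nat.card σ.ker ≤ 1 := by
  refine Tails.card_ker_le σ hσ one_ne_zero fun p hp hd => ?_
  rw [card_Ly_eq] at hd
  have h1 : p ∣ 2 ^ 8 * 3 ^ 7 * 5 ^ 6 * 7 * 11 * 31 * 37 * 67 := by norm_num; exact hd
  have q : ∀ r : ℕ, r.Prime → p ∣ r → p = r := fun r hr h => (Nat.prime_dvd_prime_iff_eq hp hr).1 h
  refine le_of_eq_of_le ?_ (Nat.zero_le _)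
  simp only [Nat.Prime.dvd_mul hp] at h1
  rcases h1 with ((((((h1 | h1) | h1) | h1) | h1) | h1) | h1) | h1
  · obtain rfl := q 2 Nat.prime_two (hp.dvd_of_dvd_pow h1)
    exact bound2 Γ σ hσ
  · obtain rfl := q 3 Nat.prime_three (hp.dvd_of_dvd_pow h1)
    exact bound3 Γ σ hσ
  · obtain rfl := q 5 (by norm_num) (hp.dvd_of_dvd_pow h1)
    exact bound5 Γ σ hσ
  · obtain rfl := q 7 (by norm_num) h1
    have := Fact.mk hp
    exact bound_ord ord7_in ord7_ok (by norm_num) Γ σ hσ
  · obtain rfl := q 11 (by norm_num) h1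
    have := Fact.mk hp
    exact bound_ord ord11_in ord11_ok (by norm_num) Γ σ hσ
  · obtain rfl := q 31 (by norm_num) h1
    have := Fact.mk hp
    exact bound_ord ord31_in ord31_ok (by norm_num) Γ σ hσ
  · obtain rfl := q 37 (by norm_num) h1
    have := Fact.mk hp
    exact bound_ord ord37_in ord37_ok (by norm_num) Γ σ hσ
  · obtain rfl := q 67 (by norm_num) h1
    have := Fact.mk hp
    exact bound_ord ord67_in ord67_ok (by norm_num) Γ σ hσ

theorem hasMultiplier : Cfsg.HasCyclicSchurMultiplier LyP 1 := by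
  refine Basic.hasCyclicSchurMultiplier_one_of fun Γ _ _ σ hσ => ?_
  exact Subgroup.card_eq_one.1 (le_antisymm (card_ker_le Γ σ hσ) Nat.card_pos)

end CfsgLib.Schur.Sporadic.Ly
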