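import Cfsg.Agent.Lib.Schur.Ly.Wide
import Cfsg.Agent.Lib.Schur.Ly.Data0
import Cfsg.Agent.Lib.Schur.Ly.Data1
import Cfsg.Agent.Lib.Schur.Ly.Data2
import Cfsg.Agent.Lib.Schur.Ly.Data3

/-!
# The matrices
-/

set_option autoImplicit false
set_option maxRecDepth 100000

namespace CfsgLib.Schur.Sporadic.Ly

open CfsgLib.Sporadic.WideMatrix CfsgLib.Sporadic.CosetCert.LyG2Five CfsgLib.Sporadic.CosetCert.LyIndex

/-- A matrix in the Lyons group. -/
noncomputable def mat0 : List ℕ := expMat short0

/-- A matrix in the Lyons group. -/
noncomputable def mat1 : List ℕ := expMat short1

/-- A matrix in the Lyons group. -/
noncomputable def mat2 : List ℕ := expMat short2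

/-- A matrix in the Lyons group. -/
noncomputable def mat3 : List ℕ := expMat short3

/-- A matrix in the Lyons group. -/
noncomputable def mat4 : List ℕ := expMat short4

/-- A matrix in the Lyons group. -/
noncomputable def mat5 : List ℕ := expMat short5

/-- A matrix in the Lyons group. -/
noncomputable def mat6 : List ℕ := expMat short6

/-- A matrix in the Lyons group. -/
noncomputable def mat7 : List ℕ := expMat short7

/-- A matrix in the Lyons group. -/
noncomputable def mat8 : List ℕ := expMat short8

/-- A matrix in the Lyons group. -/
noncomputable def mat9 : List ℕ := expMat short9

/-- A matrix in the Lyons group. -/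
noncomputable def mat10 : List ℕ := expMat short10

/-- A matrix in the Lyons group. -/
noncomputable def mat11 : List ℕ := expMat short11

/-- A matrix in the Lyons group. -/
noncomputable def mat12 : List ℕ := expMat short12

/-- A matrix in the Lyons group. -/
noncomputable def mat13 : List ℕ := expMat short13

/-- A matrix in the Lyons group. -/
noncomputable def mat14 : List ℕ := expMat short14

/-- A matrix in the Lyons group. -/
noncomputable def mat15 : List ℕ := expMat short15

/-- A matrix in the Lyons group. -/
noncomputable def mat16 : List ℕ := expMat short16

/-- A matrix in the Lyons group. -/
noncomputable def mat17 : List ℕ := expMat short17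

/-- A matrix in the Lyons group. -/
noncomputable def mat18 : List ℕ := expMat short18

/-- A matrix in the Lyons group. -/
noncomputable def mat19 : List ℕ := expMat short19

/-- A matrix in the Lyons group. -/
noncomputable def mat20 : List ℕ := expMat short20

/-- A matrix in the Lyons group. -/
noncomputable def mat21 : List ℕ := expMat short21

/-- A matrix in the Lyons group. -/
noncomputable def mat22 : List ℕ := expMat short22

/-- A matrix in the Lyons group. -/
noncomputable def mat23 : List ℕ := expMat short23

/-- A matrix in the Lyons group. -/
noncomputable def mat24 : List ℕ := expMat short24

/-- A matrix in the Lyons group. -/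
noncomputable def mat25 : List ℕ := expMat short25

/-- A matrix in the Lyons group. -/
noncomputable def mat26 : List ℕ := expMat short26

/-- A matrix in the Lyons group. -/
noncomputable def mat27 : List ℕ := expMat short27

/-- A matrix in the Lyons group. -/
noncomputable def mat28 : List ℕ := expMat short28

/-- A matrix in the Lyons group. -/
noncomputable def mat29 : List ℕ := expMat short29

/-- A matrix in the Lyons group. -/
noncomputable def mat30 : List ℕ := expMat short30

/-- A matrix in the Lyons group. -/
noncomputable def mat31 : List ℕ := expMat short31

/-- A matrix in the Lyons group. -/
noncomputable def mat32 : List ℕ := expMat short32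

/-- A matrix in the Lyons group. -/
noncomputable def mat33 : List ℕ := expMat short33

/-- A matrix in the Lyons group. -/
noncomputable def mat34 : List ℕ := expMat short34

/-- A matrix in the Lyons group. -/
noncomputable def mat35 : List ℕ := expMat short35

/-- A matrix in the Lyons group. -/
noncomputable def mat36 : List ℕ := expMat short36

/-- A matrix in the Lyons group. -/
noncomputable def mat37 : List ℕ := expMat short37

/-- A matrix in the Lyons group. -/
noncomputable def mat38 : List ℕ := expMat short38

/-- A matrix in the Lyons group. -/
noncomputable def mat39 : List ℕ := expMat short39

/-- A matrix in the Lyons group. -/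
noncomputable def mat40 : List ℕ := expMat short40

/-- A matrix in the Lyons group. -/
noncomputable def mat41 : List ℕ := expMat short41

/-- A matrix in the Lyons group. -/
noncomputable def mat42 : List ℕ := expMat short42

/-- A matrix in the Lyons group. -/
noncomputable def mat43 : List ℕ := expMat short43

/-- A matrix in the Lyons group. -/
noncomputable def mat44 : List ℕ := expMat short44

/-- A matrix in the Lyons group. -/
noncomputable def mat45 : List ℕ := expMat short45

/-- A matrix in the Lyons group. -/
noncomputable def mat46 : List ℕ := expMat short46

/-- A matrix in the Lyons group. -/
noncomputable def mat47 : List ℕ := expMat short47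

/-- A matrix in the Lyons group. -/
noncomputable def mat48 : List ℕ := expMat short48

/-- A matrix in the Lyons group. -/
noncomputable def mat49 : List ℕ := expMat short49

/-- A matrix in the Lyons group. -/
noncomputable def mat50 : List ℕ := expMat short50

/-- A matrix in the Lyons group. -/
noncomputable def mat51 : List ℕ := expMat short51

/-- A matrix in the Lyons group. -/
noncomputable def mat52 : List ℕ := expMat short52

/-- A matrix in the Lyons group. -/
noncomputable def mat53 : List ℕ := expMat short53

/-- A matrix in the Lyons group. -/
noncomputable def mat54 : List ℕ := expMat short54

/-- A matrix in the Lyons group. -/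
noncomputable def mat55 : List ℕ := expMat short55

/-- A matrix in the Lyons group. -/
noncomputable def mat56 : List ℕ := expMat short56

/-- A matrix in the Lyons group. -/
noncomputable def mat57 : List ℕ := expMat short57

/-- A matrix in the Lyons group. -/
noncomputable def mat58 : List ℕ := expMat short58

/-- A matrix in the Lyons group. -/
noncomputable def mat59 : List ℕ := expMat short59

/-- A matrix in the Lyons group. -/
noncomputable def mat60 : List ℕ := expMat short60

/-- A matrix in the Lyons group. -/
noncomputable def mat61 : List ℕ := expMat short61

/-- A matrix in the Lyons group. -/
noncomputable def mat62 : List ℕ := expMat short62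

/-- A matrix in the Lyons group. -/
noncomputable def mat63 : List ℕ := expMat short63

/-- A matrix in the Lyons group. -/
noncomputable def mat64 : List ℕ := expMat short64

/-- A matrix in the Lyons group. -/
noncomputable def mat65 : List ℕ := expMat short65

/-- A matrix in the Lyons group. -/
noncomputable def mat66 : List ℕ := expMat short66

/-- A matrix in the Lyons group. -/
noncomputable def mat67 : List ℕ := expMat short67

/-- A matrix in the Lyons group. -/
noncomputable def mat68 : List ℕ := expMat short68

/-- A matrix in the Lyons group. -/
noncomputable def mat69 : List ℕ := expMat short69

/-- A matrix in the Lyons group. -/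
noncomputable def mat70 : List ℕ := expMat short70

/-- A matrix in the Lyons group. -/
noncomputable def mat71 : List ℕ := expMat short71

/-- A matrix in the Lyons group. -/
noncomputable def mat72 : List ℕ := expMat short72

/-- A matrix in the Lyons group. -/
noncomputable def mat73 : List ℕ := expMat short73

/-- A matrix in the Lyons group. -/
noncomputable def mat74 : List ℕ := expMat short74

/-- A matrix in the Lyons group. -/
noncomputable def mat75 : List ℕ := expMat short75

/-- A matrix in the Lyons group. -/
noncomputable def mat76 : List ℕ := expMat short76

/-- A matrix in the Lyons group. -/
noncomputable def mat77 : List ℕ := expMat short77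

/-- A matrix in the Lyons group. -/
noncomputable def mat78 : List ℕ := expMat short78

/-- A matrix in the Lyons group. -/
noncomputable def mat79 : List ℕ := expMat short79

/-- A matrix in the Lyons group. -/
noncomputable def mat80 : List ℕ := expMat short80

/-- A matrix in the Lyons group. -/
noncomputable def mat81 : List ℕ := expMat short81

/-- A matrix in the Lyons group. -/
noncomputable def mat82 : List ℕ := expMat short82

/-- A matrix in the Lyons group. -/
noncomputable def mat83 : List ℕ := expMat short83

/-- A matrix in the Lyons group. -/
noncomputable def mat84 : List ℕ := expMat short84

/-- A matrix in the Lyons group. -/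
noncomputable def mat85 : List ℕ := expMat short85

/-- A matrix in the Lyons group. -/
noncomputable def mat86 : List ℕ := expMat short86

/-- A matrix in the Lyons group. -/
noncomputable def mat87 : List ℕ := expMat short87

/-- A matrix in the Lyons group. -/
noncomputable def mat88 : List ℕ := expMat short88

/-- A matrix in the Lyons group. -/
noncomputable def mat89 : List ℕ := expMat short89

/-- A matrix in the Lyons group. -/
noncomputable def mat90 : List ℕ := expMat short90

/-- A matrix in the Lyons group. -/
noncomputable def mat91 : List ℕ := expMat short91

/-- A matrix in the Lyons group. -/
noncomputable def mat92 : List ℕ := expMat short92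

/-- A matrix in the Lyons group. -/
noncomputable def mat93 : List ℕ := expMat short93

/-- A matrix in the Lyons group. -/
noncomputable def mat94 : List ℕ := expMat short94

/-- A matrix in the Lyons group. -/
noncomputable def mat95 : List ℕ := expMat short95

/-- A matrix in the Lyons group. -/
noncomputable def mat96 : List ℕ := expMat short96

/-- A matrix in the Lyons group. -/
noncomputable def mat97 : List ℕ := expMat short97

/-- A matrix in the Lyons group. -/
noncomputable def mat98 : List ℕ := expMat short98

/-- A matrix in the Lyons group. -/
noncomputable def mat99 : List ℕ := expMat short99

/-- A matrix in the Lyons group. -/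
noncomputable def mat100 : List ℕ := expMat short100

end CfsgLib.Schur.Sporadic.Ly
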