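import Cfsg.Agent.Lib.Schur.Ly.Mats

/-!
# The matrices are products of letters, part 0
-/

set_option autoImplicit false
set_option maxRecDepth 100000

namespace CfsgLib.Schur.Sporadic.Ly

open CfsgLib.Sporadic.WideMatrix CfsgLib.Sporadic.CosetCert.LyG2Five CfsgLib.Sporadic.CosetCert.LyIndex

theorem mat0_chk : okRows 111 mat0 = true ∧ prodIs [lett111 9, lett111 2, lett111 2, lett111 4, lett111 0, lett111 5, lett111 9, lett111 1, lett111 5, lett111 9, lett111 0, lett111 0, lett111 0, lett111 0, lett111 10, lett111 4, lett111 0, lett111 10, lett111 4, lett111 1, lett111 5, lett111 3, lett111 3, lett111 10] mat0 = true := by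
  decide +kernel

theorem mat0_in : InRho mat0 :=
  prodIs_spec (List.forall_mem_cons.2 ⟨inRho_lett 9,
    List.forall_mem_cons.2 ⟨inRho_lett 2,
    List.forall_mem_cons.2 ⟨inRho_lett 2,
    List.forall_mem_cons.2 ⟨inRho_lett 4,
    List.forall_mem_cons.2 ⟨inRho_lett 0,
    List.forall_mem_cons.2 ⟨inRho_lett 5,
    List.forall_mem_cons.2 ⟨inRho_lett 9,
    List.forall_mem_cons.2 ⟨inRho_lett 1,
    List.forall_mem_cons.2 ⟨inRho_lett 5,
    List.forall_mem_cons.2 ⟨inRho_lett 9,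
    List.forall_mem_cons.2 ⟨inRho_lett 0,
    List.forall_mem_cons.2 ⟨inRho_lett 0,
    List.forall_mem_cons.2 ⟨inRho_lett 0,
    List.forall_mem_cons.2 ⟨inRho_lett 0,
    List.forall_mem_cons.2 ⟨inRho_lett 10,
    List.forall_mem_cons.2 ⟨inRho_lett 4,
    List.forall_mem_cons.2 ⟨inRho_lett 0,
    List.forall_mem_cons.2 ⟨inRho_lett 10,
    List.forall_mem_cons.2 ⟨inRho_lett 4,
    List.forall_mem_cons.2 ⟨inRho_lett 1,
    List.forall_mem_cons.2 ⟨inRho_lett 5,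
    List.forall_mem_cons.2 ⟨inRho_lett 3,
    List.forall_mem_cons.2 ⟨inRho_lett 3,
    List.forall_mem_cons.2 ⟨inRho_lett 10,
    List.forall_mem_nil _⟩⟩⟩⟩⟩⟩⟩⟩⟩⟩⟩⟩⟩⟩⟩⟩⟩⟩⟩⟩⟩⟩⟩⟩) mat0_chk.1 mat0_chk.2

theorem mat1_chk : okRows 111 mat1 = true ∧ prodIs [mat0, lett111 0, lett111 0, lett111 0, lett111 0, lett111 9, lett111 2, lett111 2, lett111 4, lett111 0, lett111 5, lett111 9, lett111 1, lett111 5, lett111 9, lett111 0, lett111 0, lett111 0, lett111 0, lett111 10, lett111 4, lett111 0, lett111 10, lett111 4] mat1 = true := by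
  decide +kernel

theorem mat1_in : InRho mat1 :=
  prodIs_spec (List.forall_mem_cons.2 ⟨mat0_in,
    List.forall_mem_cons.2 ⟨inRho_lett 0,
    List.forall_mem_cons.2 ⟨inRho_lett 0,
    List.forall_mem_cons.2 ⟨inRho_lett 0,
    List.forall_mem_cons.2 ⟨inRho_lett 0,
    List.forall_mem_cons.2 ⟨inRho_lett 9,
    List.forall_mem_cons.2 ⟨inRho_lett 2,
    List.forall_mem_cons.2 ⟨inRho_lett 2,
    List.forall_mem_cons.2 ⟨inRho_lett 4,
    List.forall_mem_cons.2 ⟨inRho_lett 0,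
    List.forall_mem_cons.2 ⟨inRho_lett 5,
    List.forall_mem_cons.2 ⟨inRho_lett 9,
    List.forall_mem_cons.2 ⟨inRho_lett 1,
    List.forall_mem_cons.2 ⟨inRho_lett 5,
    List.forall_mem_cons.2 ⟨inRho_lett 9,
    List.forall_mem_cons.2 ⟨inRho_lett 0,
    List.forall_mem_cons.2 ⟨inRho_lett 0,
    List.forall_mem_cons.2 ⟨inRho_lett 0,
    List.forall_mem_cons.2 ⟨inRho_lett 0,
    List.forall_mem_cons.2 ⟨inRho_lett 10,
    List.forall_mem_cons.2 ⟨inRho_lett 4,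
    List.forall_mem_cons.2 ⟨inRho_lett 0,
    List.forall_mem_cons.2 ⟨inRho_lett 10,
    List.forall_mem_cons.2 ⟨inRho_lett 4,
    List.forall_mem_nil _⟩⟩⟩⟩⟩⟩⟩⟩⟩⟩⟩⟩⟩⟩⟩⟩⟩⟩⟩⟩⟩⟩⟩⟩) mat1_chk.1 mat1_chk.2

theorem mat2_chk : okRows 111 mat2 = true ∧ prodIs [mat1, lett111 1, lett111 5, lett111 3, lett111 3, lett111 10, lett111 0, lett111 0, lett111 0, lett111 0, lett111 9, lett111 2, lett111 2, lett111 4, lett111 0, lett111 5, lett111 9, lett111 1, lett111 5, lett111 9] mat2 = true := by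
  decide +kernel

theorem mat2_in : InRho mat2 :=
  prodIs_spec (List.forall_mem_cons.2 ⟨mat1_in,
    List.forall_mem_cons.2 ⟨inRho_lett 1,
    List.forall_mem_cons.2 ⟨inRho_lett 5,
    List.forall_mem_cons.2 ⟨inRho_lett 3,
    List.forall_mem_cons.2 ⟨inRho_lett 3,
    List.forall_mem_cons.2 ⟨inRho_lett 10,
    List.forall_mem_cons.2 ⟨inRho_lett 0,
    List.forall_mem_cons.2 ⟨inRho_lett 0,
    List.forall_mem_cons.2 ⟨inRho_lett 0,
    List.forall_mem_cons.2 ⟨inRho_lett 0,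
    List.forall_mem_cons.2 ⟨inRho_lett 9,
    List.forall_mem_cons.2 ⟨inRho_lett 2,
    List.forall_mem_cons.2 ⟨inRho_lett 2,
    List.forall_mem_cons.2 ⟨inRho_lett 4,
    List.forall_mem_cons.2 ⟨inRho_lett 0,
    List.forall_mem_cons.2 ⟨inRho_lett 5,
    List.forall_mem_cons.2 ⟨inRho_lett 9,
    List.forall_mem_cons.2 ⟨inRho_lett 1,
    List.forall_mem_cons.2 ⟨inRho_lett 5,
    List.forall_mem_cons.2 ⟨inRho_lett 9,
    List.forall_mem_nil _⟩⟩⟩⟩⟩⟩⟩⟩⟩⟩⟩⟩⟩⟩⟩⟩⟩⟩⟩⟩) mat2_chk.1 mat2_chk.2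

theorem mat3_chk : okRows 111 mat3 = true ∧ prodIs [lett111 3, lett111 4, lett111 3, lett111 9, lett111 1, lett111 4, lett111 3, lett111 9, lett111 0, lett111 0, lett111 0, lett111 0, lett111 10, lett111 2, lett111 5, lett111 0, lett111 10, lett111 2, lett111 5, lett111 2, lett111 0, lett111 0, lett111 0, lett111 0] mat3 = true := by
  decide +kernel

theorem mat3_in : InRho mat3 :=
  prodIs_spec (List.forall_mem_cons.2 ⟨inRho_lett 3,
    List.forall_mem_cons.2 ⟨inRho_lett 4,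
    List.forall_mem_cons.2 ⟨inRho_lett 3,
    List.forall_mem_cons.2 ⟨inRho_lett 9,
    List.forall_mem_cons.2 ⟨inRho_lett 1,
    List.forall_mem_cons.2 ⟨inRho_lett 4,
    List.forall_mem_cons.2 ⟨inRho_lett 3,
    List.forall_mem_cons.2 ⟨inRho_lett 9,
    List.forall_mem_cons.2 ⟨inRho_lett 0,
    List.forall_mem_cons.2 ⟨inRho_lett 0,
    List.forall_mem_cons.2 ⟨inRho_lett 0,
    List.forall_mem_cons.2 ⟨inRho_lett 0,
    List.forall_mem_cons.2 ⟨inRho_lett 10,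
    List.forall_mem_cons.2 ⟨inRho_lett 2,
    List.forall_mem_cons.2 ⟨inRho_lett 5,
    List.forall_mem_cons.2 ⟨inRho_lett 0,
    List.forall_mem_cons.2 ⟨inRho_lett 10,
    List.forall_mem_cons.2 ⟨inRho_lett 2,
    List.forall_mem_cons.2 ⟨inRho_lett 5,
    List.forall_mem_cons.2 ⟨inRho_lett 2,
    List.forall_mem_cons.2 ⟨inRho_lett 0,
    List.forall_mem_cons.2 ⟨inRho_lett 0,
    List.forall_mem_cons.2 ⟨inRho_lett 0,
    List.forall_mem_cons.2 ⟨inRho_lett 0,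
    List.forall_mem_nil _⟩⟩⟩⟩⟩⟩⟩⟩⟩⟩⟩⟩⟩⟩⟩⟩⟩⟩⟩⟩⟩⟩⟩⟩) mat3_chk.1 mat3_chk.2

end CfsgLib.Schur.Sporadic.Ly
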