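import Cfsg.Agent.Lib.Schur.Ly.Mats
import Cfsg.Agent.Lib.Schur.Ly.Nodes0

/-!
# The matrices are products of letters, part 1
-/

set_option autoImplicit false
set_option maxRecDepth 100000

namespace CfsgLib.Schur.Sporadic.Ly

open CfsgLib.Sporadic.WideMatrix CfsgLib.Sporadic.CosetCert.LyG2Five CfsgLib.Sporadic.CosetCert.LyIndex

theorem mat4_chk : okRows 111 mat4 = true ∧ prodIs [mat3, lett111 3, lett111 4, lett111 3, lett111 9, lett111 1, lett111 4, lett111 3, lett111 9, lett111 0, lett111 0, lett111 0, lett111 0, lett111 10, lett111 2, lett111 5, lett111 0, lett111 10, lett111 2, lett111 5, lett111 2, lett111 0, lett111 0, lett111 0] mat4 = true := by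
  decide +kernel

theorem mat4_in : InRho mat4 :=
  prodIs_spec (List.forall_mem_cons.2 ⟨mat3_in,
    List.forall_mem_cons.2 ⟨inRho_lett 3,
    List.forall_mem_cons.2 ⟨inRho_lett 4,
    List.forall_mem_cons.2 ⟨inRho_lett 3,
    List.forall_mem_cons.2 ⟨inRho_lett 9,
    List.forall_mem_cons.2 ⟨inRho_lett 1,
    List.forall_mem_cons.2 ⟨inRho_lett 4,
    List.forall_mem_cons.2 ⟨inRho_lett 3,
    List.forall_mem_cons.2 ⟨inRho_lett 9,
    List.forall_mem_cons.2 ⟨inRho_lett 0,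
    List.forall_mem_cons.2 ⟨inRho_lett 0,
    List.forall_mem_cons.2 ⟨inRho_lett 0,
    List.forall_mem_cons.2 ⟨inRho_lett 0,
    List.forall_mem_cons.2 ⟨inRho_lett 10,
    List.forall_mem_cons.2 ⟨inRho_lett 2,
    List.forall_mem_cons.2 ⟨inRho_lett 5,
    List.forall_mem_cons.2 ⟨inRho_lett 0,
    List.forall_mem_cons.2 ⟨inRho_lett 10,
    List.forall_mem_cons.2 ⟨inRho_lett 2,
    List.forall_mem_cons.2 ⟨inRho_lett 5,
    List.forall_mem_cons.2 ⟨inRho_lett 2,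
    List.forall_mem_cons.2 ⟨inRho_lett 0,
    List.forall_mem_cons.2 ⟨inRho_lett 0,
    List.forall_mem_cons.2 ⟨inRho_lett 0,
    List.forall_mem_nil _⟩⟩⟩⟩⟩⟩⟩⟩⟩⟩⟩⟩⟩⟩⟩⟩⟩⟩⟩⟩⟩⟩⟩⟩) mat4_chk.1 mat4_chk.2

theorem mat5_chk : okRows 111 mat5 = true ∧ prodIs [mat4, lett111 0, lett111 3, lett111 4, lett111 3, lett111 9, lett111 1, lett111 4, lett111 3, lett111 9, lett111 0] mat5 = true := by
  decide +kernel

theorem mat5_in : InRho mat5 :=
  prodIs_spec (List.forall_mem_cons.2 ⟨mat4_in,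
    List.forall_mem_cons.2 ⟨inRho_lett 0,
    List.forall_mem_cons.2 ⟨inRho_lett 3,
    List.forall_mem_cons.2 ⟨inRho_lett 4,
    List.forall_mem_cons.2 ⟨inRho_lett 3,
    List.forall_mem_cons.2 ⟨inRho_lett 9,
    List.forall_mem_cons.2 ⟨inRho_lett 1,
    List.forall_mem_cons.2 ⟨inRho_lett 4,
    List.forall_mem_cons.2 ⟨inRho_lett 3,
    List.forall_mem_cons.2 ⟨inRho_lett 9,
    List.forall_mem_cons.2 ⟨inRho_lett 0,
    List.forall_mem_nil _⟩⟩⟩⟩⟩⟩⟩⟩⟩⟩⟩) mat5_chk.1 mat5_chk.2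

theorem mat6_chk : okRows 111 mat6 = true ∧ prodIs [lett111 0, lett111 4, lett111 9, lett111 4, lett111 9, lett111 2, lett111 4, lett111 0, lett111 0, lett111 0, lett111 0, lett111 5, lett111 3, lett111 10, lett111 5, lett111 10, lett111 5, lett111 0, lett111 0, lett111 0, lett111 0, lett111 4, lett111 9, lett111 4] mat6 = true := by
  decide +kernel

theorem mat6_in : InRho mat6 :=
  prodIs_spec (List.forall_mem_cons.2 ⟨inRho_lett 0,
    List.forall_mem_cons.2 ⟨inRho_lett 4,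
    List.forall_mem_cons.2 ⟨inRho_lett 9,
    List.forall_mem_cons.2 ⟨inRho_lett 4,
    List.forall_mem_cons.2 ⟨inRho_lett 9,
    List.forall_mem_cons.2 ⟨inRho_lett 2,
    List.forall_mem_cons.2 ⟨inRho_lett 4,
    List.forall_mem_cons.2 ⟨inRho_lett 0,
    List.forall_mem_cons.2 ⟨inRho_lett 0,
    List.forall_mem_cons.2 ⟨inRho_lett 0,
    List.forall_mem_cons.2 ⟨inRho_lett 0,
    List.forall_mem_cons.2 ⟨inRho_lett 5,
    List.forall_mem_cons.2 ⟨inRho_lett 3,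
    List.forall_mem_cons.2 ⟨inRho_lett 10,
    List.forall_mem_cons.2 ⟨inRho_lett 5,
    List.forall_mem_cons.2 ⟨inRho_lett 10,
    List.forall_mem_cons.2 ⟨inRho_lett 5,
    List.forall_mem_cons.2 ⟨inRho_lett 0,
    List.forall_mem_cons.2 ⟨inRho_lett 0,
    List.forall_mem_cons.2 ⟨inRho_lett 0,
    List.forall_mem_cons.2 ⟨inRho_lett 0,
    List.forall_mem_cons.2 ⟨inRho_lett 4,
    List.forall_mem_cons.2 ⟨inRho_lett 9,
    List.forall_mem_cons.2 ⟨inRho_lett 4,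
    List.forall_mem_nil _⟩⟩⟩⟩⟩⟩⟩⟩⟩⟩⟩⟩⟩⟩⟩⟩⟩⟩⟩⟩⟩⟩⟩⟩) mat6_chk.1 mat6_chk.2

theorem mat7_chk : okRows 111 mat7 = true ∧ prodIs [mat6, lett111 9, lett111 2, lett111 4, lett111 0, lett111 0, lett111 0, lett111 0, lett111 5, lett111 3, lett111 10, lett111 5, lett111 10, lett111 5, lett111 0, lett111 0, lett111 0, lett111 0, lett111 4, lett111 9, lett111 4, lett111 9, lett111 2, lett111 4] mat7 = true := by
  decide +kernel

theorem mat7_in : InRho mat7 :=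
  prodIs_spec (List.forall_mem_cons.2 ⟨mat6_in,
    List.forall_mem_cons.2 ⟨inRho_lett 9,
    List.forall_mem_cons.2 ⟨inRho_lett 2,
    List.forall_mem_cons.2 ⟨inRho_lett 4,
    List.forall_mem_cons.2 ⟨inRho_lett 0,
    List.forall_mem_cons.2 ⟨inRho_lett 0,
    List.forall_mem_cons.2 ⟨inRho_lett 0,
    List.forall_mem_cons.2 ⟨inRho_lett 0,
    List.forall_mem_cons.2 ⟨inRho_lett 5,
    List.forall_mem_cons.2 ⟨inRho_lett 3,
    List.forall_mem_cons.2 ⟨inRho_lett 10,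
    List.forall_mem_cons.2 ⟨inRho_lett 5,
    List.forall_mem_cons.2 ⟨inRho_lett 10,
    List.forall_mem_cons.2 ⟨inRho_lett 5,
    List.forall_mem_cons.2 ⟨inRho_lett 0,
    List.forall_mem_cons.2 ⟨inRho_lett 0,
    List.forall_mem_cons.2 ⟨inRho_lett 0,
    List.forall_mem_cons.2 ⟨inRho_lett 0,
    List.forall_mem_cons.2 ⟨inRho_lett 4,
    List.forall_mem_cons.2 ⟨inRho_lett 9,
    List.forall_mem_cons.2 ⟨inRho_lett 4,
    List.forall_mem_cons.2 ⟨inRho_lett 9,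
    List.forall_mem_cons.2 ⟨inRho_lett 2,
    List.forall_mem_cons.2 ⟨inRho_lett 4,
    List.forall_mem_nil _⟩⟩⟩⟩⟩⟩⟩⟩⟩⟩⟩⟩⟩⟩⟩⟩⟩⟩⟩⟩⟩⟩⟩⟩) mat7_chk.1 mat7_chk.2

end CfsgLib.Schur.Sporadic.Ly
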