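import Cfsg.Agent.Lib.Schur.Ly.Mats
import Cfsg.Agent.Lib.Schur.Ly.Nodes1

/-!
# The matrices are products of letters, part 2
-/

set_option autoImplicit false
set_option maxRecDepth 100000

namespace CfsgLib.Schur.Sporadic.Ly

open CfsgLib.Sporadic.WideMatrix CfsgLib.Sporadic.CosetCert.LyG2Five CfsgLib.Sporadic.CosetCert.LyIndex

theorem mat8_chk : okRows 111 mat8 = true ∧ prodIs [mat7, lett111 6, lett111 9] mat8 = true := by
  decide +kernel

theorem mat8_in : InRho mat8 :=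
  prodIs_spec (List.forall_mem_cons.2 ⟨mat7_in,
    List.forall_mem_cons.2 ⟨inRho_lett 6,
    List.forall_mem_cons.2 ⟨inRho_lett 9,
    List.forall_mem_nil _⟩⟩⟩) mat8_chk.1 mat8_chk.2

theorem mat9_chk : okRows 111 mat9 = true ∧ prodIs [mat8, mat8, mat8, mat8] mat9 = true := by
  decide +kernel

theorem mat9_in : InRho mat9 :=
  prodIs_spec (List.forall_mem_cons.2 ⟨mat8_in,
    List.forall_mem_cons.2 ⟨mat8_in,
    List.forall_mem_cons.2 ⟨mat8_in,
    List.forall_mem_cons.2 ⟨mat8_in,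
    List.forall_mem_nil _⟩⟩⟩⟩) mat9_chk.1 mat9_chk.2

theorem mat10_chk : okRows 111 mat10 = true ∧ prodIs [mat8, mat8, mat8, mat9] mat10 = true := by
  decide +kernel

theorem mat10_in : InRho mat10 :=
  prodIs_spec (List.forall_mem_cons.2 ⟨mat8_in,
    List.forall_mem_cons.2 ⟨mat8_in,
    List.forall_mem_cons.2 ⟨mat8_in,
    List.forall_mem_cons.2 ⟨mat9_in,
    List.forall_mem_nil _⟩⟩⟩⟩) mat10_chk.1 mat10_chk.2

theorem mat11_chk : okRows 111 mat11 = true ∧ prodIs [lett111 1, mat10, lett111 0] mat11 = true := by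
  decide +kernel

theorem mat11_in : InRho mat11 :=
  prodIs_spec (List.forall_mem_cons.2 ⟨inRho_lett 1,
    List.forall_mem_cons.2 ⟨mat10_in,
    List.forall_mem_cons.2 ⟨inRho_lett 0,
    List.forall_mem_nil _⟩⟩⟩) mat11_chk.1 mat11_chk.2

theorem mat12_chk : okRows 111 mat12 = true ∧ prodIs [mat9, mat9, mat9, mat9, mat9] mat12 = true := by
  decide +kernel

theorem mat12_in : InRho mat12 :=
  prodIs_spec (List.forall_mem_cons.2 ⟨mat9_in,
    List.forall_mem_cons.2 ⟨mat9_in,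
    List.forall_mem_cons.2 ⟨mat9_in,
    List.forall_mem_cons.2 ⟨mat9_in,
    List.forall_mem_cons.2 ⟨mat9_in,
    List.forall_mem_nil _⟩⟩⟩⟩⟩) mat12_chk.1 mat12_chk.2

theorem mat13_chk : okRows 111 mat13 = true ∧ prodIs [mat12, mat11, mat8] mat13 = true := by
  decide +kernel

theorem mat13_in : InRho mat13 :=
  prodIs_spec (List.forall_mem_cons.2 ⟨mat12_in,
    List.forall_mem_cons.2 ⟨mat11_in,
    List.forall_mem_cons.2 ⟨mat8_in,
    List.forall_mem_nil _⟩⟩⟩) mat13_chk.1 mat13_chk.2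

theorem mat14_chk : okRows 111 mat14 = true ∧ prodIs [lett111 1, mat13, lett111 0] mat14 = true := by
  decide +kernel

theorem mat14_in : InRho mat14 :=
  prodIs_spec (List.forall_mem_cons.2 ⟨inRho_lett 1,
    List.forall_mem_cons.2 ⟨mat13_in,
    List.forall_mem_cons.2 ⟨inRho_lett 0,
    List.forall_mem_nil _⟩⟩⟩) mat14_chk.1 mat14_chk.2

theorem mat15_chk : okRows 111 mat15 = true ∧ prodIs [lett111 0, lett111 0] mat15 = true := by
  decide +kernel

theorem mat15_in : InRho mat15 :=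
  prodIs_spec (List.forall_mem_cons.2 ⟨inRho_lett 0,
    List.forall_mem_cons.2 ⟨inRho_lett 0,
    List.forall_mem_nil _⟩⟩) mat15_chk.1 mat15_chk.2

theorem mat16_chk : okRows 111 mat16 = true ∧ prodIs [mat15, mat15] mat16 = true := by
  decide +kernel

theorem mat16_in : InRho mat16 :=
  prodIs_spec (List.forall_mem_cons.2 ⟨mat15_in,
    List.forall_mem_cons.2 ⟨mat15_in,
    List.forall_mem_nil _⟩⟩) mat16_chk.1 mat16_chk.2

theorem mat17_chk : okRows 111 mat17 = true ∧ prodIs [mat5, mat5, mat5, mat16] mat17 = true := by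
  decide +kernel

theorem mat17_in : InRho mat17 :=
  prodIs_spec (List.forall_mem_cons.2 ⟨mat5_in,
    List.forall_mem_cons.2 ⟨mat5_in,
    List.forall_mem_cons.2 ⟨mat5_in,
    List.forall_mem_cons.2 ⟨mat16_in,
    List.forall_mem_nil _⟩⟩⟩⟩) mat17_chk.1 mat17_chk.2

theorem mat18_chk : okRows 111 mat18 = true ∧ prodIs [mat2, mat2, mat2, mat2] mat18 = true := by
  decide +kernel

theorem mat18_in : InRho mat18 :=
  prodIs_spec (List.forall_mem_cons.2 ⟨mat2_in,
    List.forall_mem_cons.2 ⟨mat2_in,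
    List.forall_mem_cons.2 ⟨mat2_in,
    List.forall_mem_cons.2 ⟨mat2_in,
    List.forall_mem_nil _⟩⟩⟩⟩) mat18_chk.1 mat18_chk.2

theorem mat19_chk : okRows 111 mat19 = true ∧ prodIs [mat2, mat2, mat2, mat18, mat18, mat18, mat18, mat18] mat19 = true := by
  decide +kernel

theorem mat19_in : InRho mat19 :=
  prodIs_spec (List.forall_mem_cons.2 ⟨mat2_in,
    List.forall_mem_cons.2 ⟨mat2_in,
    List.forall_mem_cons.2 ⟨mat2_in,
    List.forall_mem_cons.2 ⟨mat18_in,
    List.forall_mem_cons.2 ⟨mat18_in,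
    List.forall_mem_cons.2 ⟨mat18_in,
    List.forall_mem_cons.2 ⟨mat18_in,
    List.forall_mem_cons.2 ⟨mat18_in,
    List.forall_mem_nil _⟩⟩⟩⟩⟩⟩⟩⟩) mat19_chk.1 mat19_chk.2

theorem mat20_chk : okRows 111 mat20 = true ∧ prodIs [mat19, mat17, mat14, mat5, mat2] mat20 = true := by
  decide +kernel

theorem mat20_in : InRho mat20 :=
  prodIs_spec (List.forall_mem_cons.2 ⟨mat19_in,
    List.forall_mem_cons.2 ⟨mat17_in,
    List.forall_mem_cons.2 ⟨mat14_in,
    List.forall_mem_cons.2 ⟨mat5_in,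
    List.forall_mem_cons.2 ⟨mat2_in,
    List.forall_mem_nil _⟩⟩⟩⟩⟩) mat20_chk.1 mat20_chk.2

end CfsgLib.Schur.Sporadic.Ly
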