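import Cfsg.Agent.Lib.Schur.Ly.Mats
import Cfsg.Agent.Lib.Schur.Ly.Nodes2

/-!
# The matrices are products of letters, part 3
-/

set_option autoImplicit false
set_option maxRecDepth 100000

namespace CfsgLib.Schur.Sporadic.Ly

open CfsgLib.Sporadic.WideMatrix CfsgLib.Sporadic.CosetCert.LyG2Five CfsgLib.Sporadic.CosetCert.LyIndex

theorem mat21_chk : okRows 111 mat21 = true ∧ prodIs [mat19, mat11, mat2] mat21 = true := by
  decide +kernel

theorem mat21_in : InRho mat21 :=
  prodIs_spec (List.forall_mem_cons.2 ⟨mat19_in,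
    List.forall_mem_cons.2 ⟨mat11_in,
    List.forall_mem_cons.2 ⟨mat2_in,
    List.forall_mem_nil _⟩⟩⟩) mat21_chk.1 mat21_chk.2

theorem mat22_chk : okRows 111 mat22 = true ∧ prodIs [lett111 1, mat21, lett111 0] mat22 = true := by
  decide +kernel

theorem mat22_in : InRho mat22 :=
  prodIs_spec (List.forall_mem_cons.2 ⟨inRho_lett 1,
    List.forall_mem_cons.2 ⟨mat21_in,
    List.forall_mem_cons.2 ⟨inRho_lett 0,
    List.forall_mem_nil _⟩⟩⟩) mat22_chk.1 mat22_chk.2

theorem mat23_chk : okRows 111 mat23 = true ∧ prodIs [lett111 7, mat22, lett111 6] mat23 = true := by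
  decide +kernel

theorem mat23_in : InRho mat23 :=
  prodIs_spec (List.forall_mem_cons.2 ⟨inRho_lett 7,
    List.forall_mem_cons.2 ⟨mat22_in,
    List.forall_mem_cons.2 ⟨inRho_lett 6,
    List.forall_mem_nil _⟩⟩⟩) mat23_chk.1 mat23_chk.2

theorem mat24_chk : okRows 111 mat24 = true ∧ prodIs [lett111 7, mat11, lett111 6] mat24 = true := by
  decide +kernel

theorem mat24_in : InRho mat24 :=
  prodIs_spec (List.forall_mem_cons.2 ⟨inRho_lett 7,
    List.forall_mem_cons.2 ⟨mat11_in,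
    List.forall_mem_cons.2 ⟨inRho_lett 6,
    List.forall_mem_nil _⟩⟩⟩) mat24_chk.1 mat24_chk.2

theorem mat25_chk : okRows 111 mat25 = true ∧ prodIs [mat12, mat24, mat8] mat25 = true := by
  decide +kernel

theorem mat25_in : InRho mat25 :=
  prodIs_spec (List.forall_mem_cons.2 ⟨mat12_in,
    List.forall_mem_cons.2 ⟨mat24_in,
    List.forall_mem_cons.2 ⟨mat8_in,
    List.forall_mem_nil _⟩⟩⟩) mat25_chk.1 mat25_chk.2

theorem mat26_chk : okRows 111 mat26 = true ∧ prodIs [mat21, mat25, mat25, mat23, mat23, mat20] mat26 = true := by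
  decide +kernel

theorem mat26_in : InRho mat26 :=
  prodIs_spec (List.forall_mem_cons.2 ⟨mat21_in,
    List.forall_mem_cons.2 ⟨mat25_in,
    List.forall_mem_cons.2 ⟨mat25_in,
    List.forall_mem_cons.2 ⟨mat23_in,
    List.forall_mem_cons.2 ⟨mat23_in,
    List.forall_mem_cons.2 ⟨mat20_in,
    List.forall_mem_nil _⟩⟩⟩⟩⟩⟩) mat26_chk.1 mat26_chk.2

theorem mat27_chk : okRows 111 mat27 = true ∧ prodIs [mat10, mat11] mat27 = true := by
  decide +kernel

theorem mat27_in : InRho mat27 :=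
  prodIs_spec (List.forall_mem_cons.2 ⟨mat10_in,
    List.forall_mem_cons.2 ⟨mat11_in,
    List.forall_mem_nil _⟩⟩) mat27_chk.1 mat27_chk.2

theorem mat28_chk : okRows 111 mat28 = true ∧ prodIs [mat12, mat14, mat8] mat28 = true := by
  decide +kernel

theorem mat28_in : InRho mat28 :=
  prodIs_spec (List.forall_mem_cons.2 ⟨mat12_in,
    List.forall_mem_cons.2 ⟨mat14_in,
    List.forall_mem_cons.2 ⟨mat8_in,
    List.forall_mem_nil _⟩⟩⟩) mat28_chk.1 mat28_chk.2

theorem mat29_chk : okRows 111 mat29 = true ∧ prodIs [mat17, mat28, mat5] mat29 = true := by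
  decide +kernel

theorem mat29_in : InRho mat29 :=
  prodIs_spec (List.forall_mem_cons.2 ⟨mat17_in,
    List.forall_mem_cons.2 ⟨mat28_in,
    List.forall_mem_cons.2 ⟨mat5_in,
    List.forall_mem_nil _⟩⟩⟩) mat29_chk.1 mat29_chk.2

theorem mat30_chk : okRows 111 mat30 = true ∧ prodIs [mat17, mat13, mat5] mat30 = true := by
  decide +kernel

theorem mat30_in : InRho mat30 :=
  prodIs_spec (List.forall_mem_cons.2 ⟨mat17_in,
    List.forall_mem_cons.2 ⟨mat13_in,
    List.forall_mem_cons.2 ⟨mat5_in,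
    List.forall_mem_nil _⟩⟩⟩) mat30_chk.1 mat30_chk.2

theorem mat31_chk : okRows 111 mat31 = true ∧ prodIs [mat30, mat29] mat31 = true := by
  decide +kernel

theorem mat31_in : InRho mat31 :=
  prodIs_spec (List.forall_mem_cons.2 ⟨mat30_in,
    List.forall_mem_cons.2 ⟨mat29_in,
    List.forall_mem_nil _⟩⟩) mat31_chk.1 mat31_chk.2

theorem mat32_chk : okRows 111 mat32 = true ∧ prodIs [mat15, mat26, mat27, mat26] mat32 = true := by
  decide +kernel

theorem mat32_in : InRho mat32 :=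
  prodIs_spec (List.forall_mem_cons.2 ⟨mat15_in,
    List.forall_mem_cons.2 ⟨mat26_in,
    List.forall_mem_cons.2 ⟨mat27_in,
    List.forall_mem_cons.2 ⟨mat26_in,
    List.forall_mem_nil _⟩⟩⟩⟩) mat32_chk.1 mat32_chk.2

theorem mat33_chk : okRows 111 mat33 = true ∧ prodIs [mat26, mat31, mat26, mat31] mat33 = true := by
  decide +kernel

theorem mat33_in : InRho mat33 :=
  prodIs_spec (List.forall_mem_cons.2 ⟨mat26_in,
    List.forall_mem_cons.2 ⟨mat31_in,
    List.forall_mem_cons.2 ⟨mat26_in,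
    List.forall_mem_cons.2 ⟨mat31_in,
    List.forall_mem_nil _⟩⟩⟩⟩) mat33_chk.1 mat33_chk.2

theorem mat34_chk : okRows 111 mat34 = true ∧ prodIs [mat27, mat31, mat27, mat31] mat34 = true := by
  decide +kernel

theorem mat34_in : InRho mat34 :=
  prodIs_spec (List.forall_mem_cons.2 ⟨mat27_in,
    List.forall_mem_cons.2 ⟨mat31_in,
    List.forall_mem_cons.2 ⟨mat27_in,
    List.forall_mem_cons.2 ⟨mat31_in,
    List.forall_mem_nil _⟩⟩⟩⟩) mat34_chk.1 mat34_chk.2

theorem mat35_chk : okRows 111 mat35 = true ∧ prodIs [mat31, mat27, mat31, mat27, mat26, mat27, mat31, mat27, mat31, mat26] mat35 = true := by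
  decide +kernel

theorem mat35_in : InRho mat35 :=
  prodIs_spec (List.forall_mem_cons.2 ⟨mat31_in,
    List.forall_mem_cons.2 ⟨mat27_in,
    List.forall_mem_cons.2 ⟨mat31_in,
    List.forall_mem_cons.2 ⟨mat27_in,
    List.forall_mem_cons.2 ⟨mat26_in,
    List.forall_mem_cons.2 ⟨mat27_in,
    List.forall_mem_cons.2 ⟨mat31_in,
    List.forall_mem_cons.2 ⟨mat27_in,
    List.forall_mem_cons.2 ⟨mat31_in,
    List.forall_mem_cons.2 ⟨mat26_in,
    List.forall_mem_nil _⟩⟩⟩⟩⟩⟩⟩⟩⟩⟩) mat35_chk.1 mat35_chk.2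

end CfsgLib.Schur.Sporadic.Ly
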