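import Cfsg.Agent.Lib.Schur.Ly.Mats
import Cfsg.Agent.Lib.Schur.Ly.Nodes3

/-!
# The matrices are products of letters, part 4
-/

set_option autoImplicit false
set_option maxRecDepth 100000

namespace CfsgLib.Schur.Sporadic.Ly

open CfsgLib.Sporadic.WideMatrix CfsgLib.Sporadic.CosetCert.LyG2Five CfsgLib.Sporadic.CosetCert.LyIndex

theorem mat36_chk : okRows 111 mat36 = true ∧ prodIs [mat12, mat22, mat8] mat36 = true := by
  decide +kernel

theorem mat36_in : InRho mat36 :=
  prodIs_spec (List.forall_mem_cons.2 ⟨mat12_in,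
    List.forall_mem_cons.2 ⟨mat22_in,
    List.forall_mem_cons.2 ⟨mat8_in,
    List.forall_mem_nil _⟩⟩⟩) mat36_chk.1 mat36_chk.2

theorem mat37_chk : okRows 111 mat37 = true ∧ prodIs [mat19, mat10, mat2] mat37 = true := by
  decide +kernel

theorem mat37_in : InRho mat37 :=
  prodIs_spec (List.forall_mem_cons.2 ⟨mat19_in,
    List.forall_mem_cons.2 ⟨mat10_in,
    List.forall_mem_cons.2 ⟨mat2_in,
    List.forall_mem_nil _⟩⟩⟩) mat37_chk.1 mat37_chk.2

theorem mat38_chk : okRows 111 mat38 = true ∧ prodIs [mat19, mat37, mat2, mat36] mat38 = true := by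
  decide +kernel

theorem mat38_in : InRho mat38 :=
  prodIs_spec (List.forall_mem_cons.2 ⟨mat19_in,
    List.forall_mem_cons.2 ⟨mat37_in,
    List.forall_mem_cons.2 ⟨mat2_in,
    List.forall_mem_cons.2 ⟨mat36_in,
    List.forall_mem_nil _⟩⟩⟩⟩) mat38_chk.1 mat38_chk.2

theorem mat39_chk : okRows 111 mat39 = true ∧ prodIs [mat14, mat14, mat12, mat36, mat8] mat39 = true := by
  decide +kernel

theorem mat39_in : InRho mat39 :=
  prodIs_spec (List.forall_mem_cons.2 ⟨mat14_in,
    List.forall_mem_cons.2 ⟨mat14_in,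
    List.forall_mem_cons.2 ⟨mat12_in,
    List.forall_mem_cons.2 ⟨mat36_in,
    List.forall_mem_cons.2 ⟨mat8_in,
    List.forall_mem_nil _⟩⟩⟩⟩⟩) mat39_chk.1 mat39_chk.2

theorem mat40_chk : okRows 111 mat40 = true ∧ prodIs [mat19, mat13, mat2] mat40 = true := by
  decide +kernel

theorem mat40_in : InRho mat40 :=
  prodIs_spec (List.forall_mem_cons.2 ⟨mat19_in,
    List.forall_mem_cons.2 ⟨mat13_in,
    List.forall_mem_cons.2 ⟨mat2_in,
    List.forall_mem_nil _⟩⟩⟩) mat40_chk.1 mat40_chk.2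

theorem mat41_chk : okRows 111 mat41 = true ∧ prodIs [lett111 1, mat37, lett111 0] mat41 = true := by
  decide +kernel

theorem mat41_in : InRho mat41 :=
  prodIs_spec (List.forall_mem_cons.2 ⟨inRho_lett 1,
    List.forall_mem_cons.2 ⟨mat37_in,
    List.forall_mem_cons.2 ⟨inRho_lett 0,
    List.forall_mem_nil _⟩⟩⟩) mat41_chk.1 mat41_chk.2

theorem mat42_chk : okRows 111 mat42 = true ∧ prodIs [mat41, lett111 3, lett111 10, mat40, lett111 9, lett111 2] mat42 = true := by
  decide +kernel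

theorem mat42_in : InRho mat42 :=
  prodIs_spec (List.forall_mem_cons.2 ⟨mat41_in,
    List.forall_mem_cons.2 ⟨inRho_lett 3,
    List.forall_mem_cons.2 ⟨inRho_lett 10,
    List.forall_mem_cons.2 ⟨mat40_in,
    List.forall_mem_cons.2 ⟨inRho_lett 9,
    List.forall_mem_cons.2 ⟨inRho_lett 2,
    List.forall_mem_nil _⟩⟩⟩⟩⟩⟩) mat42_chk.1 mat42_chk.2

theorem mat43_chk : okRows 111 mat43 = true ∧ prodIs [lett111 1, mat28, lett111 0] mat43 = true := by
  decide +kernel

theorem mat43_in : InRho mat43 :=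
  prodIs_spec (List.forall_mem_cons.2 ⟨inRho_lett 1,
    List.forall_mem_cons.2 ⟨mat28_in,
    List.forall_mem_cons.2 ⟨inRho_lett 0,
    List.forall_mem_nil _⟩⟩⟩) mat43_chk.1 mat43_chk.2

theorem mat44_chk : okRows 111 mat44 = true ∧ prodIs [mat12, mat43, mat8] mat44 = true := by
  decide +kernel

theorem mat44_in : InRho mat44 :=
  prodIs_spec (List.forall_mem_cons.2 ⟨mat12_in,
    List.forall_mem_cons.2 ⟨mat43_in,
    List.forall_mem_cons.2 ⟨mat8_in,
    List.forall_mem_nil _⟩⟩⟩) mat44_chk.1 mat44_chk.2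

theorem mat45_chk : okRows 111 mat45 = true ∧ prodIs [lett111 7, mat19, mat29, mat2, lett111 6] mat45 = true := by
  decide +kernel

theorem mat45_in : InRho mat45 :=
  prodIs_spec (List.forall_mem_cons.2 ⟨inRho_lett 7,
    List.forall_mem_cons.2 ⟨mat19_in,
    List.forall_mem_cons.2 ⟨mat29_in,
    List.forall_mem_cons.2 ⟨mat2_in,
    List.forall_mem_cons.2 ⟨inRho_lett 6,
    List.forall_mem_nil _⟩⟩⟩⟩⟩) mat45_chk.1 mat45_chk.2

theorem mat46_chk : okRows 111 mat46 = true ∧ prodIs [mat45, lett111 10, mat44, lett111 9] mat46 = true := by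
  decide +kernel

theorem mat46_in : InRho mat46 :=
  prodIs_spec (List.forall_mem_cons.2 ⟨mat45_in,
    List.forall_mem_cons.2 ⟨inRho_lett 10,
    List.forall_mem_cons.2 ⟨mat44_in,
    List.forall_mem_cons.2 ⟨inRho_lett 9,
    List.forall_mem_nil _⟩⟩⟩⟩) mat46_chk.1 mat46_chk.2

theorem mat47_chk : okRows 111 mat47 = true ∧ prodIs [lett111 3, mat13, lett111 2] mat47 = true := by
  decide +kernel

theorem mat47_in : InRho mat47 :=
  prodIs_spec (List.forall_mem_cons.2 ⟨inRho_lett 3,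
    List.forall_mem_cons.2 ⟨mat13_in,
    List.forall_mem_cons.2 ⟨inRho_lett 2,
    List.forall_mem_nil _⟩⟩⟩) mat47_chk.1 mat47_chk.2

theorem mat48_chk : okRows 111 mat48 = true ∧ prodIs [mat17, mat47, mat5] mat48 = true := by
  decide +kernel

theorem mat48_in : InRho mat48 :=
  prodIs_spec (List.forall_mem_cons.2 ⟨mat17_in,
    List.forall_mem_cons.2 ⟨mat47_in,
    List.forall_mem_cons.2 ⟨mat5_in,
    List.forall_mem_nil _⟩⟩⟩) mat48_chk.1 mat48_chk.2

theorem mat49_chk : okRows 111 mat49 = true ∧ prodIs [mat30, mat30, mat48, mat48] mat49 = true := by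
  decide +kernel

theorem mat49_in : InRho mat49 :=
  prodIs_spec (List.forall_mem_cons.2 ⟨mat30_in,
    List.forall_mem_cons.2 ⟨mat30_in,
    List.forall_mem_cons.2 ⟨mat48_in,
    List.forall_mem_cons.2 ⟨mat48_in,
    List.forall_mem_nil _⟩⟩⟩⟩) mat49_chk.1 mat49_chk.2

end CfsgLib.Schur.Sporadic.Ly
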