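import Cfsg.Agent.Lib.Schur.Ly.Mats
import Cfsg.Agent.Lib.Schur.Ly.Nodes4

/-!
# The matrices are products of letters, part 5
-/

set_option autoImplicit false
set_option maxRecDepth 100000

namespace CfsgLib.Schur.Sporadic.Ly

open CfsgLib.Sporadic.WideMatrix CfsgLib.Sporadic.CosetCert.LyG2Five CfsgLib.Sporadic.CosetCert.LyIndex

theorem mat50_chk : okRows 111 mat50 = true ∧ prodIs [lett111 3, lett111 3, mat28, lett111 2, lett111 2] mat50 = true := by
  decide +kernel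

theorem mat50_in : InRho mat50 :=
  prodIs_spec (List.forall_mem_cons.2 ⟨inRho_lett 3,
    List.forall_mem_cons.2 ⟨inRho_lett 3,
    List.forall_mem_cons.2 ⟨mat28_in,
    List.forall_mem_cons.2 ⟨inRho_lett 2,
    List.forall_mem_cons.2 ⟨inRho_lett 2,
    List.forall_mem_nil _⟩⟩⟩⟩⟩) mat50_chk.1 mat50_chk.2

theorem mat51_chk : okRows 111 mat51 = true ∧ prodIs [lett111 1, mat11, lett111 0] mat51 = true := by
  decide +kernel

theorem mat51_in : InRho mat51 :=
  prodIs_spec (List.forall_mem_cons.2 ⟨inRho_lett 1,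
    List.forall_mem_cons.2 ⟨mat11_in,
    List.forall_mem_cons.2 ⟨inRho_lett 0,
    List.forall_mem_nil _⟩⟩⟩) mat51_chk.1 mat51_chk.2

theorem mat52_chk : okRows 111 mat52 = true ∧ prodIs [mat19, lett111 10, mat12, mat51, mat8, lett111 9, mat2] mat52 = true := by
  decide +kernel

theorem mat52_in : InRho mat52 :=
  prodIs_spec (List.forall_mem_cons.2 ⟨mat19_in,
    List.forall_mem_cons.2 ⟨inRho_lett 10,
    List.forall_mem_cons.2 ⟨mat12_in,
    List.forall_mem_cons.2 ⟨mat51_in,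
    List.forall_mem_cons.2 ⟨mat8_in,
    List.forall_mem_cons.2 ⟨inRho_lett 9,
    List.forall_mem_cons.2 ⟨mat2_in,
    List.forall_mem_nil _⟩⟩⟩⟩⟩⟩⟩) mat52_chk.1 mat52_chk.2

theorem mat53_chk : okRows 111 mat53 = true ∧ prodIs [mat25, mat25, mat52, mat52, mat50] mat53 = true := by
  decide +kernel

theorem mat53_in : InRho mat53 :=
  prodIs_spec (List.forall_mem_cons.2 ⟨mat25_in,
    List.forall_mem_cons.2 ⟨mat25_in,
    List.forall_mem_cons.2 ⟨mat52_in,
    List.forall_mem_cons.2 ⟨mat52_in,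
    List.forall_mem_cons.2 ⟨mat50_in,
    List.forall_mem_nil _⟩⟩⟩⟩⟩) mat53_chk.1 mat53_chk.2

theorem mat54_chk : okRows 111 mat54 = true ∧ prodIs [mat19, mat28, mat2] mat54 = true := by
  decide +kernel

theorem mat54_in : InRho mat54 :=
  prodIs_spec (List.forall_mem_cons.2 ⟨mat19_in,
    List.forall_mem_cons.2 ⟨mat28_in,
    List.forall_mem_cons.2 ⟨mat2_in,
    List.forall_mem_nil _⟩⟩⟩) mat54_chk.1 mat54_chk.2

theorem mat55_chk : okRows 111 mat55 = true ∧ prodIs [mat17, mat25, mat5] mat55 = true := by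
  decide +kernel

theorem mat55_in : InRho mat55 :=
  prodIs_spec (List.forall_mem_cons.2 ⟨mat17_in,
    List.forall_mem_cons.2 ⟨mat25_in,
    List.forall_mem_cons.2 ⟨mat5_in,
    List.forall_mem_nil _⟩⟩⟩) mat55_chk.1 mat55_chk.2

theorem mat56_chk : okRows 111 mat56 = true ∧ prodIs [lett111 5, lett111 1, lett111 7, lett111 10, lett111 10, mat16] mat56 = true := by
  decide +kernel

theorem mat56_in : InRho mat56 :=
  prodIs_spec (List.forall_mem_cons.2 ⟨inRho_lett 5,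
    List.forall_mem_cons.2 ⟨inRho_lett 1,
    List.forall_mem_cons.2 ⟨inRho_lett 7,
    List.forall_mem_cons.2 ⟨inRho_lett 10,
    List.forall_mem_cons.2 ⟨inRho_lett 10,
    List.forall_mem_cons.2 ⟨mat16_in,
    List.forall_mem_nil _⟩⟩⟩⟩⟩⟩) mat56_chk.1 mat56_chk.2

theorem mat57_chk : okRows 111 mat57 = true ∧ prodIs [mat56, mat15, lett111 6, lett111 0, lett111 4, mat12, mat47, mat8, mat24, mat24, mat19, mat12, lett111 10, mat55, lett111 9, mat8, mat2, mat54] mat57 = true := by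
  decide +kernel

theorem mat57_in : InRho mat57 :=
  prodIs_spec (List.forall_mem_cons.2 ⟨mat56_in,
    List.forall_mem_cons.2 ⟨mat15_in,
    List.forall_mem_cons.2 ⟨inRho_lett 6,
    List.forall_mem_cons.2 ⟨inRho_lett 0,
    List.forall_mem_cons.2 ⟨inRho_lett 4,
    List.forall_mem_cons.2 ⟨mat12_in,
    List.forall_mem_cons.2 ⟨mat47_in,
    List.forall_mem_cons.2 ⟨mat8_in,
    List.forall_mem_cons.2 ⟨mat24_in,
    List.forall_mem_cons.2 ⟨mat24_in,
    List.forall_mem_cons.2 ⟨mat19_in,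
    List.forall_mem_cons.2 ⟨mat12_in,
    List.forall_mem_cons.2 ⟨inRho_lett 10,
    List.forall_mem_cons.2 ⟨mat55_in,
    List.forall_mem_cons.2 ⟨inRho_lett 9,
    List.forall_mem_cons.2 ⟨mat8_in,
    List.forall_mem_cons.2 ⟨mat2_in,
    List.forall_mem_cons.2 ⟨mat54_in,
    List.forall_mem_nil _⟩⟩⟩⟩⟩⟩⟩⟩⟩⟩⟩⟩⟩⟩⟩⟩⟩⟩) mat57_chk.1 mat57_chk.2

theorem mat58_chk : okRows 111 mat58 = true ∧ prodIs [mat57, mat57, mat57, mat57] mat58 = true := by
  decide +kernel

theorem mat58_in : InRho mat58 :=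
  prodIs_spec (List.forall_mem_cons.2 ⟨mat57_in,
    List.forall_mem_cons.2 ⟨mat57_in,
    List.forall_mem_cons.2 ⟨mat57_in,
    List.forall_mem_cons.2 ⟨mat57_in,
    List.forall_mem_nil _⟩⟩⟩⟩) mat58_chk.1 mat58_chk.2

theorem mat59_chk : okRows 111 mat59 = true ∧ prodIs [lett111 4, mat58, mat58] mat59 = true := by
  decide +kernel

theorem mat59_in : InRho mat59 :=
  prodIs_spec (List.forall_mem_cons.2 ⟨inRho_lett 4,
    List.forall_mem_cons.2 ⟨mat58_in,
    List.forall_mem_cons.2 ⟨mat58_in,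
    List.forall_mem_nil _⟩⟩⟩) mat59_chk.1 mat59_chk.2

end CfsgLib.Schur.Sporadic.Ly
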