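import Cfsg.Agent.Lib.Schur.Ly.Mats
import Cfsg.Agent.Lib.Schur.Ly.Nodes5

/-!
# The matrices are products of letters, part 6
-/

set_option autoImplicit false
set_option maxRecDepth 100000

namespace CfsgLib.Schur.Sporadic.Ly

open CfsgLib.Sporadic.WideMatrix CfsgLib.Sporadic.CosetCert.LyG2Five CfsgLib.Sporadic.CosetCert.LyIndex

theorem mat60_chk : okRows 111 mat60 = true ∧ prodIs [mat12, mat19, mat19, mat25, mat2, mat2, mat8] mat60 = true := by
  decide +kernel

theorem mat60_in : InRho mat60 :=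
  prodIs_spec (List.forall_mem_cons.2 ⟨mat12_in,
    List.forall_mem_cons.2 ⟨mat19_in,
    List.forall_mem_cons.2 ⟨mat19_in,
    List.forall_mem_cons.2 ⟨mat25_in,
    List.forall_mem_cons.2 ⟨mat2_in,
    List.forall_mem_cons.2 ⟨mat2_in,
    List.forall_mem_cons.2 ⟨mat8_in,
    List.forall_mem_nil _⟩⟩⟩⟩⟩⟩⟩) mat60_chk.1 mat60_chk.2

theorem mat61_chk : okRows 111 mat61 = true ∧ prodIs [mat59, mat59, mat59, mat59] mat61 = true := by
  decide +kernel

theorem mat61_in : InRho mat61 :=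
  prodIs_spec (List.forall_mem_cons.2 ⟨mat59_in,
    List.forall_mem_cons.2 ⟨mat59_in,
    List.forall_mem_cons.2 ⟨mat59_in,
    List.forall_mem_cons.2 ⟨mat59_in,
    List.forall_mem_nil _⟩⟩⟩⟩) mat61_chk.1 mat61_chk.2

theorem mat62_chk : okRows 111 mat62 = true ∧ prodIs [mat61, mat61, mat61, mat61] mat62 = true := by
  decide +kernel

theorem mat62_in : InRho mat62 :=
  prodIs_spec (List.forall_mem_cons.2 ⟨mat61_in,
    List.forall_mem_cons.2 ⟨mat61_in,
    List.forall_mem_cons.2 ⟨mat61_in,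
    List.forall_mem_cons.2 ⟨mat61_in,
    List.forall_mem_nil _⟩⟩⟩⟩) mat62_chk.1 mat62_chk.2

theorem mat63_chk : okRows 111 mat63 = true ∧ prodIs [mat59, mat59, mat59, mat61, mat62, mat62, mat60, mat60, mat59] mat63 = true := by
  decide +kernel

theorem mat63_in : InRho mat63 :=
  prodIs_spec (List.forall_mem_cons.2 ⟨mat59_in,
    List.forall_mem_cons.2 ⟨mat59_in,
    List.forall_mem_cons.2 ⟨mat59_in,
    List.forall_mem_cons.2 ⟨mat61_in,
    List.forall_mem_cons.2 ⟨mat62_in,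
    List.forall_mem_cons.2 ⟨mat62_in,
    List.forall_mem_cons.2 ⟨mat60_in,
    List.forall_mem_cons.2 ⟨mat60_in,
    List.forall_mem_cons.2 ⟨mat59_in,
    List.forall_mem_nil _⟩⟩⟩⟩⟩⟩⟩⟩⟩) mat63_chk.1 mat63_chk.2

theorem mat64_chk : okRows 111 mat64 = true ∧ prodIs [mat17, mat44, mat5] mat64 = true := by
  decide +kernel

theorem mat64_in : InRho mat64 :=
  prodIs_spec (List.forall_mem_cons.2 ⟨mat17_in,
    List.forall_mem_cons.2 ⟨mat44_in,
    List.forall_mem_cons.2 ⟨mat5_in,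
    List.forall_mem_nil _⟩⟩⟩) mat64_chk.1 mat64_chk.2

theorem mat65_chk : okRows 111 mat65 = true ∧ prodIs [mat17, mat54, mat5] mat65 = true := by
  decide +kernel

theorem mat65_in : InRho mat65 :=
  prodIs_spec (List.forall_mem_cons.2 ⟨mat17_in,
    List.forall_mem_cons.2 ⟨mat54_in,
    List.forall_mem_cons.2 ⟨mat5_in,
    List.forall_mem_nil _⟩⟩⟩) mat65_chk.1 mat65_chk.2

theorem mat66_chk : okRows 111 mat66 = true ∧ prodIs [mat19, mat55, mat2] mat66 = true := by
  decide +kernel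

theorem mat66_in : InRho mat66 :=
  prodIs_spec (List.forall_mem_cons.2 ⟨mat19_in,
    List.forall_mem_cons.2 ⟨mat55_in,
    List.forall_mem_cons.2 ⟨mat2_in,
    List.forall_mem_nil _⟩⟩⟩) mat66_chk.1 mat66_chk.2

theorem mat67_chk : okRows 111 mat67 = true ∧ prodIs [mat66, mat66, mat65, mat65, mat64, mat64] mat67 = true := by
  decide +kernel

theorem mat67_in : InRho mat67 :=
  prodIs_spec (List.forall_mem_cons.2 ⟨mat66_in,
    List.forall_mem_cons.2 ⟨mat66_in,
    List.forall_mem_cons.2 ⟨mat65_in,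
    List.forall_mem_cons.2 ⟨mat65_in,
    List.forall_mem_cons.2 ⟨mat64_in,
    List.forall_mem_cons.2 ⟨mat64_in,
    List.forall_mem_nil _⟩⟩⟩⟩⟩⟩) mat67_chk.1 mat67_chk.2

theorem mat68_chk : okRows 111 mat68 = true ∧ prodIs [mat19, mat40, mat2] mat68 = true := by
  decide +kernel

theorem mat68_in : InRho mat68 :=
  prodIs_spec (List.forall_mem_cons.2 ⟨mat19_in,
    List.forall_mem_cons.2 ⟨mat40_in,
    List.forall_mem_cons.2 ⟨mat2_in,
    List.forall_mem_nil _⟩⟩⟩) mat68_chk.1 mat68_chk.2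

theorem mat69_chk : okRows 111 mat69 = true ∧ prodIs [mat68, mat68, lett111 10, mat54, lett111 9, mat45] mat69 = true := by
  decide +kernel

theorem mat69_in : InRho mat69 :=
  prodIs_spec (List.forall_mem_cons.2 ⟨mat68_in,
    List.forall_mem_cons.2 ⟨mat68_in,
    List.forall_mem_cons.2 ⟨inRho_lett 10,
    List.forall_mem_cons.2 ⟨mat54_in,
    List.forall_mem_cons.2 ⟨inRho_lett 9,
    List.forall_mem_cons.2 ⟨mat45_in,
    List.forall_mem_nil _⟩⟩⟩⟩⟩⟩) mat69_chk.1 mat69_chk.2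

theorem mat70_chk : okRows 111 mat70 = true ∧ prodIs [lett111 7, mat37, lett111 6] mat70 = true := by
  decide +kernel

theorem mat70_in : InRho mat70 :=
  prodIs_spec (List.forall_mem_cons.2 ⟨inRho_lett 7,
    List.forall_mem_cons.2 ⟨mat37_in,
    List.forall_mem_cons.2 ⟨inRho_lett 6,
    List.forall_mem_nil _⟩⟩⟩) mat70_chk.1 mat70_chk.2

theorem mat71_chk : okRows 111 mat71 = true ∧ prodIs [mat17, mat70, mat5] mat71 = true := by
  decide +kernel

theorem mat71_in : InRho mat71 :=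
  prodIs_spec (List.forall_mem_cons.2 ⟨mat17_in,
    List.forall_mem_cons.2 ⟨mat70_in,
    List.forall_mem_cons.2 ⟨mat5_in,
    List.forall_mem_nil _⟩⟩⟩) mat71_chk.1 mat71_chk.2

end CfsgLib.Schur.Sporadic.Ly
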