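import Cfsg.Agent.Lib.Schur.Ly.Mats
import Cfsg.Agent.Lib.Schur.Ly.Nodes6

/-!
# The matrices are products of letters, part 7
-/

set_option autoImplicit false
set_option maxRecDepth 100000

namespace CfsgLib.Schur.Sporadic.Ly

open CfsgLib.Sporadic.WideMatrix CfsgLib.Sporadic.CosetCert.LyG2Five CfsgLib.Sporadic.CosetCert.LyIndex

theorem mat72_chk : okRows 111 mat72 = true ∧ prodIs [lett111 7, mat66, lett111 6] mat72 = true := by
  decide +kernel

theorem mat72_in : InRho mat72 :=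
  prodIs_spec (List.forall_mem_cons.2 ⟨inRho_lett 7,
    List.forall_mem_cons.2 ⟨mat66_in,
    List.forall_mem_cons.2 ⟨inRho_lett 6,
    List.forall_mem_nil _⟩⟩⟩) mat72_chk.1 mat72_chk.2

theorem mat73_chk : okRows 111 mat73 = true ∧ prodIs [mat51, mat51, mat12, lett111 10, mat13, lett111 9, mat8, mat72, mat72, mat29, mat29, mat71, mat71] mat73 = true := by
  decide +kernel

theorem mat73_in : InRho mat73 :=
  prodIs_spec (List.forall_mem_cons.2 ⟨mat51_in,
    List.forall_mem_cons.2 ⟨mat51_in,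
    List.forall_mem_cons.2 ⟨mat12_in,
    List.forall_mem_cons.2 ⟨inRho_lett 10,
    List.forall_mem_cons.2 ⟨mat13_in,
    List.forall_mem_cons.2 ⟨inRho_lett 9,
    List.forall_mem_cons.2 ⟨mat8_in,
    List.forall_mem_cons.2 ⟨mat72_in,
    List.forall_mem_cons.2 ⟨mat72_in,
    List.forall_mem_cons.2 ⟨mat29_in,
    List.forall_mem_cons.2 ⟨mat29_in,
    List.forall_mem_cons.2 ⟨mat71_in,
    List.forall_mem_cons.2 ⟨mat71_in,
    List.forall_mem_nil _⟩⟩⟩⟩⟩⟩⟩⟩⟩⟩⟩⟩⟩) mat73_chk.1 mat73_chk.2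

theorem mat74_chk : okRows 111 mat74 = true ∧ prodIs [mat73, mat73, mat73, mat73] mat74 = true := by
  decide +kernel

theorem mat74_in : InRho mat74 :=
  prodIs_spec (List.forall_mem_cons.2 ⟨mat73_in,
    List.forall_mem_cons.2 ⟨mat73_in,
    List.forall_mem_cons.2 ⟨mat73_in,
    List.forall_mem_cons.2 ⟨mat73_in,
    List.forall_mem_nil _⟩⟩⟩⟩) mat74_chk.1 mat74_chk.2

theorem mat75_chk : okRows 111 mat75 = true ∧ prodIs [mat73, mat73, mat74, mat74, mat63, mat73] mat75 = true := by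
  decide +kernel

theorem mat75_in : InRho mat75 :=
  prodIs_spec (List.forall_mem_cons.2 ⟨mat73_in,
    List.forall_mem_cons.2 ⟨mat73_in,
    List.forall_mem_cons.2 ⟨mat74_in,
    List.forall_mem_cons.2 ⟨mat74_in,
    List.forall_mem_cons.2 ⟨mat63_in,
    List.forall_mem_cons.2 ⟨mat73_in,
    List.forall_mem_nil _⟩⟩⟩⟩⟩⟩) mat75_chk.1 mat75_chk.2

theorem mat76_chk : okRows 111 mat76 = true ∧ prodIs [mat69, mat69, mat75, mat69, mat63] mat76 = true := by
  decide +kernel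

theorem mat76_in : InRho mat76 :=
  prodIs_spec (List.forall_mem_cons.2 ⟨mat69_in,
    List.forall_mem_cons.2 ⟨mat69_in,
    List.forall_mem_cons.2 ⟨mat75_in,
    List.forall_mem_cons.2 ⟨mat69_in,
    List.forall_mem_cons.2 ⟨mat63_in,
    List.forall_mem_nil _⟩⟩⟩⟩⟩) mat76_chk.1 mat76_chk.2

theorem mat77_chk : okRows 111 mat77 = true ∧ prodIs [mat67, mat74, mat74, mat74, mat74, mat74, mat63, mat73, mat73, mat67, mat67, mat63] mat77 = true := by
  decide +kernel

theorem mat77_in : InRho mat77 :=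
  prodIs_spec (List.forall_mem_cons.2 ⟨mat67_in,
    List.forall_mem_cons.2 ⟨mat74_in,
    List.forall_mem_cons.2 ⟨mat74_in,
    List.forall_mem_cons.2 ⟨mat74_in,
    List.forall_mem_cons.2 ⟨mat74_in,
    List.forall_mem_cons.2 ⟨mat74_in,
    List.forall_mem_cons.2 ⟨mat63_in,
    List.forall_mem_cons.2 ⟨mat73_in,
    List.forall_mem_cons.2 ⟨mat73_in,
    List.forall_mem_cons.2 ⟨mat67_in,
    List.forall_mem_cons.2 ⟨mat67_in,
    List.forall_mem_cons.2 ⟨mat63_in,
    List.forall_mem_nil _⟩⟩⟩⟩⟩⟩⟩⟩⟩⟩⟩⟩) mat77_chk.1 mat77_chk.2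

theorem mat78_chk : okRows 111 mat78 = true ∧ prodIs [mat12, mat41, mat8] mat78 = true := by
  decide +kernel

theorem mat78_in : InRho mat78 :=
  prodIs_spec (List.forall_mem_cons.2 ⟨mat12_in,
    List.forall_mem_cons.2 ⟨mat41_in,
    List.forall_mem_cons.2 ⟨mat8_in,
    List.forall_mem_nil _⟩⟩⟩) mat78_chk.1 mat78_chk.2

theorem mat79_chk : okRows 111 mat79 = true ∧ prodIs [mat19, mat12, mat78, mat8, mat2] mat79 = true := by
  decide +kernel

theorem mat79_in : InRho mat79 :=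
  prodIs_spec (List.forall_mem_cons.2 ⟨mat19_in,
    List.forall_mem_cons.2 ⟨mat12_in,
    List.forall_mem_cons.2 ⟨mat78_in,
    List.forall_mem_cons.2 ⟨mat8_in,
    List.forall_mem_cons.2 ⟨mat2_in,
    List.forall_mem_nil _⟩⟩⟩⟩⟩) mat79_chk.1 mat79_chk.2

theorem mat80_chk : okRows 111 mat80 = true ∧ prodIs [mat79, mat79, mat20, mat19, mat70, mat2, mat36] mat80 = true := by
  decide +kernel

theorem mat80_in : InRho mat80 :=
  prodIs_spec (List.forall_mem_cons.2 ⟨mat79_in,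
    List.forall_mem_cons.2 ⟨mat79_in,
    List.forall_mem_cons.2 ⟨mat20_in,
    List.forall_mem_cons.2 ⟨mat19_in,
    List.forall_mem_cons.2 ⟨mat70_in,
    List.forall_mem_cons.2 ⟨mat2_in,
    List.forall_mem_cons.2 ⟨mat36_in,
    List.forall_mem_nil _⟩⟩⟩⟩⟩⟩⟩) mat80_chk.1 mat80_chk.2

end CfsgLib.Schur.Sporadic.Ly
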