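import Cfsg.Agent.Lib.Schur.Ly.Mats
import Cfsg.Agent.Lib.Schur.Ly.Nodes7

/-!
# The matrices are products of letters, part 8
-/

set_option autoImplicit false
set_option maxRecDepth 100000

namespace CfsgLib.Schur.Sporadic.Ly

open CfsgLib.Sporadic.WideMatrix CfsgLib.Sporadic.CosetCert.LyG2Five CfsgLib.Sporadic.CosetCert.LyIndex

theorem mat81_chk : okRows 111 mat81 = true ∧ prodIs [mat73, mat80, mat73, mat80] mat81 = true := by
  decide +kernel

theorem mat81_in : InRho mat81 :=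
  prodIs_spec (List.forall_mem_cons.2 ⟨mat73_in,
    List.forall_mem_cons.2 ⟨mat80_in,
    List.forall_mem_cons.2 ⟨mat73_in,
    List.forall_mem_cons.2 ⟨mat80_in,
    List.forall_mem_nil _⟩⟩⟩⟩) mat81_chk.1 mat81_chk.2

theorem mat82_chk : okRows 111 mat82 = true ∧ prodIs [mat81, mat81, mat81, mat81] mat82 = true := by
  decide +kernel

theorem mat82_in : InRho mat82 :=
  prodIs_spec (List.forall_mem_cons.2 ⟨mat81_in,
    List.forall_mem_cons.2 ⟨mat81_in,
    List.forall_mem_cons.2 ⟨mat81_in,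
    List.forall_mem_cons.2 ⟨mat81_in,
    List.forall_mem_nil _⟩⟩⟩⟩) mat82_chk.1 mat82_chk.2

theorem mat83_chk : okRows 111 mat83 = true ∧ prodIs [mat73, mat80, mat81, mat81, mat82, mat82, mat63, mat73, mat80] mat83 = true := by
  decide +kernel

theorem mat83_in : InRho mat83 :=
  prodIs_spec (List.forall_mem_cons.2 ⟨mat73_in,
    List.forall_mem_cons.2 ⟨mat80_in,
    List.forall_mem_cons.2 ⟨mat81_in,
    List.forall_mem_cons.2 ⟨mat81_in,
    List.forall_mem_cons.2 ⟨mat82_in,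
    List.forall_mem_cons.2 ⟨mat82_in,
    List.forall_mem_cons.2 ⟨mat63_in,
    List.forall_mem_cons.2 ⟨mat73_in,
    List.forall_mem_cons.2 ⟨mat80_in,
    List.forall_mem_nil _⟩⟩⟩⟩⟩⟩⟩⟩⟩) mat83_chk.1 mat83_chk.2

theorem mat84_chk : okRows 111 mat84 = true ∧ prodIs [mat80, mat80, mat80, mat63, mat80] mat84 = true := by
  decide +kernel

theorem mat84_in : InRho mat84 :=
  prodIs_spec (List.forall_mem_cons.2 ⟨mat80_in,
    List.forall_mem_cons.2 ⟨mat80_in,
    List.forall_mem_cons.2 ⟨mat80_in,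
    List.forall_mem_cons.2 ⟨mat63_in,
    List.forall_mem_cons.2 ⟨mat80_in,
    List.forall_mem_nil _⟩⟩⟩⟩⟩) mat84_chk.1 mat84_chk.2

theorem mat85_chk : okRows 111 mat85 = true ∧ prodIs [mat75, mat84, mat83, mat83] mat85 = true := by
  decide +kernel

theorem mat85_in : InRho mat85 :=
  prodIs_spec (List.forall_mem_cons.2 ⟨mat75_in,
    List.forall_mem_cons.2 ⟨mat84_in,
    List.forall_mem_cons.2 ⟨mat83_in,
    List.forall_mem_cons.2 ⟨mat83_in,
    List.forall_mem_nil _⟩⟩⟩⟩) mat85_chk.1 mat85_chk.2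

theorem mat86_chk : okRows 111 mat86 = true ∧ prodIs [mat69, mat69, mat63, mat69, mat63, mat75, mat84] mat86 = true := by
  decide +kernel

theorem mat86_in : InRho mat86 :=
  prodIs_spec (List.forall_mem_cons.2 ⟨mat69_in,
    List.forall_mem_cons.2 ⟨mat69_in,
    List.forall_mem_cons.2 ⟨mat63_in,
    List.forall_mem_cons.2 ⟨mat69_in,
    List.forall_mem_cons.2 ⟨mat63_in,
    List.forall_mem_cons.2 ⟨mat75_in,
    List.forall_mem_cons.2 ⟨mat84_in,
    List.forall_mem_nil _⟩⟩⟩⟩⟩⟩⟩) mat86_chk.1 mat86_chk.2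

theorem mat87_chk : okRows 111 mat87 = true ∧ prodIs [lett111 3, mat78, lett111 2] mat87 = true := by
  decide +kernel

theorem mat87_in : InRho mat87 :=
  prodIs_spec (List.forall_mem_cons.2 ⟨inRho_lett 3,
    List.forall_mem_cons.2 ⟨mat78_in,
    List.forall_mem_cons.2 ⟨inRho_lett 2,
    List.forall_mem_nil _⟩⟩⟩) mat87_chk.1 mat87_chk.2

theorem mat88_chk : okRows 111 mat88 = true ∧ prodIs [mat30, mat87, mat87, mat19, mat12, mat13, mat8, mat2, mat12, mat17, mat40, mat5, mat8, mat52, mat52] mat88 = true := by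
  decide +kernel

theorem mat88_in : InRho mat88 :=
  prodIs_spec (List.forall_mem_cons.2 ⟨mat30_in,
    List.forall_mem_cons.2 ⟨mat87_in,
    List.forall_mem_cons.2 ⟨mat87_in,
    List.forall_mem_cons.2 ⟨mat19_in,
    List.forall_mem_cons.2 ⟨mat12_in,
    List.forall_mem_cons.2 ⟨mat13_in,
    List.forall_mem_cons.2 ⟨mat8_in,
    List.forall_mem_cons.2 ⟨mat2_in,
    List.forall_mem_cons.2 ⟨mat12_in,
    List.forall_mem_cons.2 ⟨mat17_in,
    List.forall_mem_cons.2 ⟨mat40_in,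
    List.forall_mem_cons.2 ⟨mat5_in,
    List.forall_mem_cons.2 ⟨mat8_in,
    List.forall_mem_cons.2 ⟨mat52_in,
    List.forall_mem_cons.2 ⟨mat52_in,
    List.forall_mem_nil _⟩⟩⟩⟩⟩⟩⟩⟩⟩⟩⟩⟩⟩⟩⟩) mat88_chk.1 mat88_chk.2

theorem mat89_chk : okRows 111 mat89 = true ∧ prodIs [mat17, mat78, mat5] mat89 = true := by
  decide +kernel

theorem mat89_in : InRho mat89 :=
  prodIs_spec (List.forall_mem_cons.2 ⟨mat17_in,
    List.forall_mem_cons.2 ⟨mat78_in,
    List.forall_mem_cons.2 ⟨mat5_in,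
    List.forall_mem_nil _⟩⟩⟩) mat89_chk.1 mat89_chk.2

theorem mat90_chk : okRows 111 mat90 = true ∧ prodIs [mat10, mat10, mat89, mat89, mat50, mat50, mat70, mat70, mat43, mat43] mat90 = true := by
  decide +kernel

theorem mat90_in : InRho mat90 :=
  prodIs_spec (List.forall_mem_cons.2 ⟨mat10_in,
    List.forall_mem_cons.2 ⟨mat10_in,
    List.forall_mem_cons.2 ⟨mat89_in,
    List.forall_mem_cons.2 ⟨mat89_in,
    List.forall_mem_cons.2 ⟨mat50_in,
    List.forall_mem_cons.2 ⟨mat50_in,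
    List.forall_mem_cons.2 ⟨mat70_in,
    List.forall_mem_cons.2 ⟨mat70_in,
    List.forall_mem_cons.2 ⟨mat43_in,
    List.forall_mem_cons.2 ⟨mat43_in,
    List.forall_mem_nil _⟩⟩⟩⟩⟩⟩⟩⟩⟩⟩) mat90_chk.1 mat90_chk.2

end CfsgLib.Schur.Sporadic.Ly
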