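import Cfsg.Agent.Lib.Schur.Ly.Mats
import Cfsg.Agent.Lib.Schur.Ly.Nodes8

/-!
# The matrices are products of letters, part 9
-/

set_option autoImplicit false
set_option maxRecDepth 100000

namespace CfsgLib.Schur.Sporadic.Ly

open CfsgLib.Sporadic.WideMatrix CfsgLib.Sporadic.CosetCert.LyG2Five CfsgLib.Sporadic.CosetCert.LyIndex

theorem mat91_chk : okRows 111 mat91 = true ∧ prodIs [lett111 1, lett111 4, lett111 0] mat91 = true := by
  decide +kernel

theorem mat91_in : InRho mat91 :=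
  prodIs_spec (List.forall_mem_cons.2 ⟨inRho_lett 1,
    List.forall_mem_cons.2 ⟨inRho_lett 4,
    List.forall_mem_cons.2 ⟨inRho_lett 0,
    List.forall_mem_nil _⟩⟩⟩) mat91_chk.1 mat91_chk.2

theorem mat92_chk : okRows 111 mat92 = true ∧ prodIs [lett111 4, lett111 3, lett111 4] mat92 = true := by
  decide +kernel

theorem mat92_in : InRho mat92 :=
  prodIs_spec (List.forall_mem_cons.2 ⟨inRho_lett 4,
    List.forall_mem_cons.2 ⟨inRho_lett 3,
    List.forall_mem_cons.2 ⟨inRho_lett 4,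
    List.forall_mem_nil _⟩⟩⟩) mat92_chk.1 mat92_chk.2

theorem mat93_chk : okRows 111 mat93 = true ∧ prodIs [mat92, lett111 4, lett111 4, lett111 2, lett111 2, lett111 4, lett111 3, lett111 3, lett111 4, lett111 2, lett111 2, lett111 4, lett111 3] mat93 = true := by
  decide +kernel

theorem mat93_in : InRho mat93 :=
  prodIs_spec (List.forall_mem_cons.2 ⟨mat92_in,
    List.forall_mem_cons.2 ⟨inRho_lett 4,
    List.forall_mem_cons.2 ⟨inRho_lett 4,
    List.forall_mem_cons.2 ⟨inRho_lett 2,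
    List.forall_mem_cons.2 ⟨inRho_lett 2,
    List.forall_mem_cons.2 ⟨inRho_lett 4,
    List.forall_mem_cons.2 ⟨inRho_lett 3,
    List.forall_mem_cons.2 ⟨inRho_lett 3,
    List.forall_mem_cons.2 ⟨inRho_lett 4,
    List.forall_mem_cons.2 ⟨inRho_lett 2,
    List.forall_mem_cons.2 ⟨inRho_lett 2,
    List.forall_mem_cons.2 ⟨inRho_lett 4,
    List.forall_mem_cons.2 ⟨inRho_lett 3,
    List.forall_mem_nil _⟩⟩⟩⟩⟩⟩⟩⟩⟩⟩⟩⟩⟩) mat93_chk.1 mat93_chk.2

theorem mat94_chk : okRows 111 mat94 = true ∧ prodIs [lett111 3, lett111 4, lett111 4, lett111 4, lett111 3, lett111 4, lett111 4, lett111 2, lett111 2] mat94 = true := by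
  decide +kernel

theorem mat94_in : InRho mat94 :=
  prodIs_spec (List.forall_mem_cons.2 ⟨inRho_lett 3,
    List.forall_mem_cons.2 ⟨inRho_lett 4,
    List.forall_mem_cons.2 ⟨inRho_lett 4,
    List.forall_mem_cons.2 ⟨inRho_lett 4,
    List.forall_mem_cons.2 ⟨inRho_lett 3,
    List.forall_mem_cons.2 ⟨inRho_lett 4,
    List.forall_mem_cons.2 ⟨inRho_lett 4,
    List.forall_mem_cons.2 ⟨inRho_lett 2,
    List.forall_mem_cons.2 ⟨inRho_lett 2,
    List.forall_mem_nil _⟩⟩⟩⟩⟩⟩⟩⟩⟩) mat94_chk.1 mat94_chk.2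

theorem mat95_chk : okRows 111 mat95 = true ∧ prodIs [mat92, lett111 2, lett111 2, lett111 4, lett111 4, lett111 3, lett111 3, lett111 4, lett111 2] mat95 = true := by
  decide +kernel

theorem mat95_in : InRho mat95 :=
  prodIs_spec (List.forall_mem_cons.2 ⟨mat92_in,
    List.forall_mem_cons.2 ⟨inRho_lett 2,
    List.forall_mem_cons.2 ⟨inRho_lett 2,
    List.forall_mem_cons.2 ⟨inRho_lett 4,
    List.forall_mem_cons.2 ⟨inRho_lett 4,
    List.forall_mem_cons.2 ⟨inRho_lett 3,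
    List.forall_mem_cons.2 ⟨inRho_lett 3,
    List.forall_mem_cons.2 ⟨inRho_lett 4,
    List.forall_mem_cons.2 ⟨inRho_lett 2,
    List.forall_mem_nil _⟩⟩⟩⟩⟩⟩⟩⟩⟩) mat95_chk.1 mat95_chk.2

theorem mat96_chk : okRows 111 mat96 = true ∧ prodIs [lett111 2, lett111 2, lett111 2, lett111 4, lett111 3, lett111 4, lett111 2, lett111 2, lett111 4, lett111 2, lett111 4, lett111 2, lett111 4, lett111 3] mat96 = true := by
  decide +kernel

theorem mat96_in : InRho mat96 :=
  prodIs_spec (List.forall_mem_cons.2 ⟨inRho_lett 2,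
    List.forall_mem_cons.2 ⟨inRho_lett 2,
    List.forall_mem_cons.2 ⟨inRho_lett 2,
    List.forall_mem_cons.2 ⟨inRho_lett 4,
    List.forall_mem_cons.2 ⟨inRho_lett 3,
    List.forall_mem_cons.2 ⟨inRho_lett 4,
    List.forall_mem_cons.2 ⟨inRho_lett 2,
    List.forall_mem_cons.2 ⟨inRho_lett 2,
    List.forall_mem_cons.2 ⟨inRho_lett 4,
    List.forall_mem_cons.2 ⟨inRho_lett 2,
    List.forall_mem_cons.2 ⟨inRho_lett 4,
    List.forall_mem_cons.2 ⟨inRho_lett 2,
    List.forall_mem_cons.2 ⟨inRho_lett 4,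
    List.forall_mem_cons.2 ⟨inRho_lett 3,
    List.forall_mem_nil _⟩⟩⟩⟩⟩⟩⟩⟩⟩⟩⟩⟩⟩⟩) mat96_chk.1 mat96_chk.2

theorem mat97_chk : okRows 111 mat97 = true ∧ prodIs [lett111 2, lett111 5, lett111 2, lett111 6] mat97 = true := by
  decide +kernel

theorem mat97_in : InRho mat97 :=
  prodIs_spec (List.forall_mem_cons.2 ⟨inRho_lett 2,
    List.forall_mem_cons.2 ⟨inRho_lett 5,
    List.forall_mem_cons.2 ⟨inRho_lett 2,
    List.forall_mem_cons.2 ⟨inRho_lett 6,
    List.forall_mem_nil _⟩⟩⟩⟩) mat97_chk.1 mat97_chk.2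

theorem mat98_chk : okRows 111 mat98 = true ∧ prodIs [lett111 10, lett111 6, lett111 10, lett111 4, lett111 1, lett111 6] mat98 = true := by
  decide +kernel

theorem mat98_in : InRho mat98 :=
  prodIs_spec (List.forall_mem_cons.2 ⟨inRho_lett 10,
    List.forall_mem_cons.2 ⟨inRho_lett 6,
    List.forall_mem_cons.2 ⟨inRho_lett 10,
    List.forall_mem_cons.2 ⟨inRho_lett 4,
    List.forall_mem_cons.2 ⟨inRho_lett 1,
    List.forall_mem_cons.2 ⟨inRho_lett 6,
    List.forall_mem_nil _⟩⟩⟩⟩⟩⟩) mat98_chk.1 mat98_chk.2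

end CfsgLib.Schur.Sporadic.Ly
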