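import Cfsg.Agent.Lib.Schur.Ly.Mats
import Cfsg.Agent.Lib.Schur.Ly.Nodes9

/-!
# The matrices are products of letters, part 10
-/

set_option autoImplicit false
set_option maxRecDepth 100000

namespace CfsgLib.Schur.Sporadic.Ly

open CfsgLib.Sporadic.WideMatrix CfsgLib.Sporadic.CosetCert.LyG2Five CfsgLib.Sporadic.CosetCert.LyIndex

theorem mat99_chk : okRows 111 mat99 = true ∧ prodIs [lett111 4, lett111 9, lett111 6, lett111 0] mat99 = true := by
  decide +kernel

theorem mat99_in : InRho mat99 :=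
  prodIs_spec (List.forall_mem_cons.2 ⟨inRho_lett 4,
    List.forall_mem_cons.2 ⟨inRho_lett 9,
    List.forall_mem_cons.2 ⟨inRho_lett 6,
    List.forall_mem_cons.2 ⟨inRho_lett 0,
    List.forall_mem_nil _⟩⟩⟩⟩) mat99_chk.1 mat99_chk.2

theorem mat100_chk : okRows 111 mat100 = true ∧ prodIs [lett111 10, lett111 1, lett111 6, lett111 4, lett111 6] mat100 = true := by
  decide +kernel

theorem mat100_in : InRho mat100 :=
  prodIs_spec (List.forall_mem_cons.2 ⟨inRho_lett 10,
    List.forall_mem_cons.2 ⟨inRho_lett 1,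
    List.forall_mem_cons.2 ⟨inRho_lett 6,
    List.forall_mem_cons.2 ⟨inRho_lett 4,
    List.forall_mem_cons.2 ⟨inRho_lett 6,
    List.forall_mem_nil _⟩⟩⟩⟩⟩) mat100_chk.1 mat100_chk.2

end CfsgLib.Schur.Sporadic.Ly
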