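import Cfsg.Agent.Lib.Schur.TailsBound
import Cfsg.Agent.Lib.Schur.TailsCombine
import Cfsg.Agent.Lib.Sporadic.LyIndex.LyRep

/-!
# Certificates for the multiplier checked on matrices of degree 111 over the field with five elements

The rules and fusions are equalities of products of packed matrices. The lower bound for a subgroup comes
from rows moved to distinct rows by given words and fixed by the later generators.
-/

set_option autoImplicit false
set_option maxRecDepth 100000

namespace CfsgLib.Schur.Sporadic.Ly

open CfsgLib.Sporadic.WideMatrix CfsgLib.Sporadic.CosetCert.LyG2Five CfsgLib.Sporadic.CosetCert.LyIndex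
open CfsgLib.Schur.Tails

/-- A row of 111 hexadecimal digits as lanes. -/
noncomputable def expRow (x : ℕ) : ℕ :=
  Nat.rec (motive := fun _ => ℕ) 0
    (fun j ih => Nat.add ih (Nat.mul (Nat.mod (Nat.div x (16 ^ j)) 16) (B ^ j))) 111

/-- A matrix given by short rows. -/
noncomputable def expMat (L : List ℕ) : List ℕ := L.map expRow

/-- An entry of a list of matrices. -/
noncomputable def look (kk : List (List ℕ)) (i : ℕ) : List ℕ := kk.getD i (lett111 13)

/-- The packed number of a word. -/
noncomputable def valP (kk : List (List ℕ)) (w : List ℕ) (v : ℕ) : ℕ :=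
  forced (prodW 111 (w.map (look kk))) v

/-- The first row as a matrix. -/
noncomputable def rowMat (v : ℕ) : List ℕ := v :: List.replicate 110 0

/-- A packed row. -/
noncomputable def startRow (v : ℕ) : ℕ := mul 111 (Wide.unitRow 0) (rowMat v)

/-- Some of the rules hold. -/
noncomputable def relOn (kk : List (List ℕ)) (D : Cert) (lo hi : ℕ) : Bool :=
  (List.range (hi - lo)).all fun i =>
    Nat.beq (valP kk (D.rules.getD (lo + i) ([], [])).1 (oneW 111))
      (valP kk (D.rules.getD (lo + i) ([], [])).2 (oneW 111))

/-- Some products of a fusion hold. -/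
noncomputable def fusOn (kk gk : List (List ℕ)) (D : Cert) (j lo hi : ℕ) : Bool :=
  (List.range (hi - lo)).all fun i =>
    Nat.beq (forced (prodW 111 (look gk j :: ((D.fus.getD j ⟨[], [], []⟩).us.getD (lo + i) []).map (look kk)))
        (oneW 111))
      (forced (prodW 111 (((D.fus.getD j ⟨[], [], []⟩).vs.getD (lo + i) []).map (look kk) ++ [look gk j]))
        (oneW 111))

/-- Words moving a row to increasing places; the later generators fix it. -/
noncomputable def stepOK (kk : List (List ℕ)) (r lo hi v : ℕ) (ws : List (List ℕ)) : Bool :=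
  okRows 111 (rowMat v) && decide (lo ≤ hi) && decide (hi ≤ r) &&
    decide (List.IsChain (· < ·) (ws.map fun w => valP kk w (startRow v))) &&
    (ws.all fun w => Cert.lettersIn w lo hi) &&
    (List.range (r - hi)).all fun j => Nat.beq (valP kk [hi + j] (startRow v)) (startRow v)

/-- An element has order `p`. -/
noncomputable def primeOrd (G : List ℕ) (p : ℕ) : Bool :=
  Nat.beq (valP [G] (List.replicate p 0) (oneW 111)) (oneW 111) &&
    !Nat.beq (valP [G] [0] (oneW 111)) (valP [G] [] (oneW 111))

variable {Q : Type*} [Group Q] {ψ : Q →* M111ˣ} {kk gk : List (List ℕ)} {y g : ℕ → Q}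

/-- A matrix represents an element. -/
def RepW (ψ : Q →* M111ˣ) (G : List ℕ) (q : Q) : Prop := okRows 111 G = true ∧ (ψ q).val = dec 111 G

theorem good_valP (hy : ∀ i, RepW ψ (look kk i) (y i)) (w : List ℕ) {v : ℕ} {X : M111} (hv : Good 111 v X) :
    Good 111 (valP kk w v) (X * (ψ (valW y w)).val) := by
  have h := hv.prodW (by norm_num) (by norm_num) (w.map (look kk)) (fun G hG => by
    obtain ⟨i, -, rfl⟩ := List.mem_map.1 hG; exact (hy i).1)
  rw [valP, forced_eq]
  convert h using 2
  induction w with
  | nil => simp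
  | cons i w ih =>
    rw [valW_cons, map_mul, Units.val_mul, List.map_cons, List.map_cons, List.prod_cons, (hy i).2,
      ih ((hv.prodW (by norm_num) (by norm_num) (w.map (look kk)) fun G hG => by
        obtain ⟨i, -, rfl⟩ := List.mem_map.1 hG; exact (hy i).1))]

theorem eq_of_valP (hψ : Function.Injective ψ) {q q' : Q} {A : ℕ} (h : Good 111 A (ψ q).val)
    (h' : Good 111 A (ψ q').val) : q = q' :=
  hψ (Units.ext (Wide.good_mat h h'))

theorem rel_of_on (hψ : Function.Injective ψ) (hy : ∀ i, RepW ψ (look kk i) (y i)) {D : Cert} {lo hi : ℕ}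
    (h : relOn kk D lo hi = true) : ∀ k, lo ≤ k → k < hi →
      valW y (D.rules.getD k ([], [])).1 = valW y (D.rules.getD k ([], [])).2 := by
  intro k hlo hhi
  simp only [relOn, List.all_eq_true, List.mem_range, Nat.beq_eq] at h
  have e := h (k - lo) (by omega)
  rw [show lo + (k - lo) = k by omega] at e
  have h1 := good_valP hy (D.rules.getD k ([], [])).1 good_one
  have h2 := good_valP hy (D.rules.getD k ([], [])).2 good_one
  rw [one_mul] at h1 h2
  exact eq_of_valP hψ h1 (e ▸ h2)

theorem fus_of_on (hψ : Function.Injective ψ) (hy : ∀ i, RepW ψ (look kk i) (y i))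
    (hg : ∀ i, RepW ψ (look gk i) (g i)) {D : Cert} {j lo hi : ℕ} (h : fusOn kk gk D j lo hi = true) :
    ∀ s, lo ≤ s → s < hi →
      g j * valW y ((D.fus.getD j ⟨[], [], []⟩).us.getD s []) =
        valW y ((D.fus.getD j ⟨[], [], []⟩).vs.getD s []) * g j := by
  intro s hlo hhi
  simp only [fusOn, List.all_eq_true, List.mem_range, Nat.beq_eq] at h
  have e := h (s - lo) (by omega)
  rw [show lo + (s - lo) = s by omega] at e
  generalize (D.fus.getD j ⟨[], [], []⟩).us.getD s [] = U at e ⊢
  generalize (D.fus.getD j ⟨[], [], []⟩).vs.getD s [] = V at e ⊢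
  have hok : ∀ (w : List ℕ), ∀ G ∈ w.map (look kk), okRows 111 G = true := fun w G hG => by
    obtain ⟨i, -, rfl⟩ := List.mem_map.1 hG; exact (hy i).1
  have hval : ∀ w : List ℕ, (ψ (valW y w)).val = ((w.map (look kk)).map (dec 111)).prod := by
    intro w
    induction w with
    | nil => simp
    | cons i w ih => rw [valW_cons, map_mul, Units.val_mul, (hy i).2, ih, List.map_cons, List.map_cons, List.prod_cons]
  have h1 := (good_one (n := 111)).prodW (by norm_num) (by norm_num) (look gk j :: U.map (look kk))
    (List.forall_mem_cons.2 ⟨(hg j).1, hok U⟩)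
  have h2 := (good_one (n := 111)).prodW (by norm_num) (by norm_num) (V.map (look kk) ++ [look gk j])
    (List.forall_mem_append.2 ⟨hok V, by simpa using (hg j).1⟩)
  rw [forced_eq, forced_eq] at e
  rw [one_mul, List.map_cons, List.prod_cons, ← (hg j).2, ← hval] at h1
  rw [one_mul, List.map_append, List.prod_append, ← hval] at h2
  simp only [List.map_cons, List.map_nil, List.prod_cons, List.prod_nil, mul_one] at h2
  rw [← (hg j).2] at h2
  refine eq_of_valP hψ (A := prodW 111 (look gk j :: U.map (look kk)) (oneW 111)) ?_ ?_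
  · rw [map_mul, Units.val_mul]; exact h1
  · rw [map_mul, Units.val_mul, e]; exact h2

/-- One step of the lower bound. -/
theorem step_card [Finite Q] (hy : ∀ i, RepW ψ (look kk i) (y i)) {r lo hi v : ℕ} {ws : List (List ℕ)}
    (h : stepOK kk r lo hi v ws = true) :
    ws.length * Nat.card (tailGen y r hi) ≤ Nat.card (tailGen y r lo) := by
  simp only [stepOK, Bool.and_eq_true, decide_eq_true_eq, List.all_eq_true, List.mem_range, Nat.beq_eq,
    lettersIn_iff] at h
  obtain ⟨⟨⟨⟨⟨hrow, hlh⟩, hhr⟩, hchain⟩, hl⟩, hfix⟩ := h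
  obtain ⟨X, hX⟩ : ∃ X, Good 111 (startRow v) X :=
    ⟨_, (Wide.good_unit (n := 111) (k := 0) (by norm_num) (by norm_num)).mul (by norm_num) (by norm_num) hrow⟩
  have hS : ∀ q ∈ tailGen y r hi, X * (ψ q).val = X := by
    intro q hq
    induction hq using Subgroup.closure_induction with
    | mem a ha =>
      obtain ⟨j, ⟨hj1, hj2⟩, rfl⟩ := ha
      have e := hfix (j - hi) (by omega)
      rw [show hi + (j - hi) = j by omega] at e
      have h1 := good_valP hy [j] hX
      rw [e, valW_cons, valW_nil, mul_one] at h1
      exact Wide.good_mat h1 hX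
    | one => simp
    | mul a b _ _ iha ihb => rw [map_mul, Units.val_mul, ← mul_assoc, iha, ihb]
    | inv a _ iha =>
      rw [map_inv]
      calc X * ((ψ a)⁻¹).val = X * (ψ a).val * ((ψ a)⁻¹).val := by rw [iha]
        _ = X := by rw [mul_assoc, Units.mul_inv, mul_one]
  have hle : tailGen y r hi ≤ tailGen y r lo :=
    Subgroup.closure_mono (Set.image_mono (Set.Ico_subset_Ico_left hlh))
  let f : Fin ws.length × tailGen y r hi → tailGen y r lo := fun e =>
    ⟨(e.2 : Q) * valW y ws[e.1], mul_mem (hle e.2.2) (valW_mem_tailGen fun l hl' =>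
      ⟨(hl _ (List.getElem_mem e.1.2) l hl').1, lt_of_lt_of_le (hl _ (List.getElem_mem e.1.2) l hl').2 hhr⟩)⟩
  have hkey : ∀ (e : Fin ws.length × tailGen y r hi),
      Good 111 (valP kk ws[e.1] (startRow v)) (X * (ψ ((f e : tailGen y r lo) : Q)).val) := fun e => by
    show Good 111 _ (X * (ψ ((e.2 : Q) * valW y ws[e.1])).val)
    rw [map_mul, Units.val_mul, ← mul_assoc, hS _ e.2.2]
    exact good_valP hy _ hX
  have hnd : (ws.map fun w => valP kk w (startRow v)).Nodup :=
    ((List.isChain_iff_pairwise).1 hchain).imp fun h => ne_of_lt h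
  have hinj : Function.Injective f := by
    rintro ⟨i, a⟩ ⟨j, b⟩ e
    have h1 := hkey (i, a)
    rw [e] at h1
    have h2 := Wide.good_num (by norm_num) h1 (hkey (j, b))
    have hij : i = j := Fin.ext ((List.Nodup.getElem_inj_iff hnd (hi := by simp [i.2]) (hj := by simp [j.2])).1
      (by rw [List.getElem_map, List.getElem_map]; exact h2))
    subst hij
    exact Prod.ext rfl (Subtype.ext (mul_right_cancel (congrArg Subtype.val e)))
  simpa using Nat.card_le_card_of_injective f hinj

theorem orderOf_of_primeOrd {G : List ℕ} {p : ℕ} [Fact p.Prime] {q : Q} (hψ : Function.Injective ψ)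
    (hG : RepW ψ G q) (h : primeOrd G p = true) : orderOf q = p := by
  simp only [primeOrd, Bool.and_eq_true, Bool.not_eq_true', Nat.beq_eq] at h
  have hone : RepW ψ (lett111 13) 1 := ⟨ok_all111 13, by rw [map_one, Units.val_one]; exact md111_id.symm⟩
  have hy : ∀ i, RepW ψ (look [G] i) ((fun i => if i = 0 then q else 1) i) := by
    intro i
    match i with
    | 0 => exact hG
    | k + 1 => exact hone
  have h1 := good_valP hy (List.replicate p 0) good_one
  have h0 := good_valP hy [0] good_one
  have hn := good_valP hy [] good_one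
  rw [one_mul] at h1 h0 hn
  refine orderOf_eq_prime ?_ fun e => ?_
  · have := eq_of_valP hψ (A := oneW 111) (q := valW (fun i => if i = 0 then q else 1) (List.replicate p 0))
      (q' := 1) (h.1 ▸ h1) (by rw [map_one, Units.val_one]; exact good_one)
    simpa [valW] using this
  · have e2 : valW (fun i => if i = 0 then q else 1) [0] = valW (fun i => if i = 0 then q else 1) [] := by
      simp [e]
    rw [e2] at h0
    rw [Wide.good_num (by norm_num) h0 hn] at h
    exact Bool.false_ne_true ((h.2).symm.trans (Nat.beq_refl _))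

/-- A matrix in the image gives an element. -/
theorem exists_repW {G : List ℕ} (h : InRho G) : ∃ q, RepW rho G q := by
  obtain ⟨hok, ⟨_, q, rfl⟩, hg⟩ := h
  exact ⟨q, hok, hg⟩

end CfsgLib.Schur.Sporadic.Ly
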